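import Cfsg.Agent.Mrg.Omega.IId.Cv.MixSide
import Cfsg.Agent.Mrg.Omega.BTwo.Conj
import Cfsg.Agent.Mrg.Omega.F4Leaf.Pos
import Cfsg.Agent.Mrg.Omega.IId.Cv.MixAny
import Cfsg.Agent.Mrg.Omega.IId.Cv.SymPos
import Cfsg.Agent.Mrg.Omega.NSix.TkPair

-- merged: Cfsg.Agent.Mrg.Omega.IId.Cv.MixIdx
section

/-!
# MIX3, abstract part (helper747)

`s : MixOne.SideW V R B C`, `I k = B k ∩ C_G(B k C k)`, `B₀ = ⨅ B k` (helper994's MIX2 with `4` replaced by `2 ^ (e + 1)`).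

* `exists_conj_pow` : `2 ^ (e + 1) ∤ |O : A|`, `J` a 2-subgroup of `O`: `|J : J ∩ A^g| ≤ 2 ^ e`;
* `index_le` : `|I j : (R j) B₀| ≤ 2 ^ e`, if a 2-group `T ≤ N(R i)`, `2 ^ (e + 1) ∤ |N(R i) : T|`, `[b, T] ≤ R i`;
* `index_B0_le` : `|I i : B₀| ≤ 2 ^ (e + 1)` (`|R i| = 2`);
* `false_of_good` : the contradiction.
-/

set_option autoImplicit false
set_option linter.unusedSectionVars false

namespace Cfsg.Agent.Omega.IId.MixAny

open Subgroup Cfsg.Agent.Omega.BTwo Cfsg.Agent.Omega.Mix Cfsg.Agent.Omega.MixOne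

section idx

/-- `2 ^ (e + 1) ∤ |O : A|`, `J` a 2-subgroup of `O`: `|J : J ∩ A^g| ≤ 2 ^ e` for some `g ∈ O`. -/
theorem exists_conj_pow_top {O : Type*} [Group O] [Finite O] {A J : Subgroup O} (hJ : IsPGroup 2 J) {e : ℕ}
    (h4 : ¬ 2 ^ (e + 1) ∣ A.index) : ∃ g : O, (cj g A).relIndex J ≤ 2 ^ e := by
  have : Fact (Nat.Prime 2) := ⟨Nat.prime_two⟩
  obtain ⟨Pa, hPa⟩ := hJ.exists_le_sylow
  obtain ⟨B⟩ : Nonempty (Sylow 2 A) := inferInstance
  have hB' : IsPGroup 2 ((B : Subgroup A).map A.subtype) := B.isPGroup'.map _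
  obtain ⟨Pb, hPb⟩ := hB'.exists_le_sylow
  obtain ⟨g, hg⟩ := MulAction.exists_smul_eq O Pb Pa
  refine ⟨g, ?_⟩
  set Bg := cj g ((B : Subgroup A).map A.subtype) with hBg
  have h1 : Bg ≤ cj g A := cj_mono (map_subtype_le _)
  have h2 : Bg ≤ (Pa : Subgroup O) := by
    rw [← hg]
    rw [Sylow.coe_subgroup_smul]
    rintro x ⟨y, hy, rfl⟩
    exact Subgroup.smul_mem_pointwise_smul _ (MulAut.conj g) _ (hPb hy)
  -- orders
  have c1 : Nat.card Bg = 2 ^ (Nat.card A).factorization 2 := by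
    rw [hBg, card_cj, ← B.card_eq_multiplicity]
    exact Nat.card_congr ((B : Subgroup A).equivMapOfInjective A.subtype A.subtype_injective).toEquiv.symm
  have c2 := Pa.card_eq_multiplicity
  have hc : Nat.card O = Nat.card A * A.index := (A.card_mul_index).symm
  have hi0 : A.index ≠ 0 := A.index_ne_zero_of_finite
  have hA0 : Nat.card A ≠ 0 := Nat.card_pos.ne'
  have hf : A.index.factorization 2 ≤ e := by
    by_contra h
    apply h4
    exact (Nat.prime_two.pow_dvd_iff_le_factorization hi0).2 (by omega)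
  have c3 : Nat.card (Pa : Subgroup O) ≤ 2 ^ e * Nat.card Bg := by
    rw [c2, c1, hc, Nat.factorization_mul hA0 hi0, Finsupp.add_apply, pow_add, mul_comm]
    exact Nat.mul_le_mul_right _ (Nat.pow_le_pow_right (by norm_num) hf)
  have c4 : Bg.relIndex (Pa : Subgroup O) ≤ 2 ^ e := by
    have h5 : Nat.card Bg * Bg.relIndex (Pa : Subgroup O) = Nat.card (Pa : Subgroup O) := by
      have h6 := relIndex_mul_relIndex ⊥ Bg (Pa : Subgroup O) bot_le h2
      rwa [relIndex_bot_left, relIndex_bot_left] at h6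
    have h7 : Nat.card Bg * Bg.relIndex (Pa : Subgroup O) ≤ Nat.card Bg * 2 ^ e := by
      rw [h5, mul_comm]; exact c3
    exact Nat.le_of_mul_le_mul_left h7 Nat.card_pos
  have fin : ∀ H K : Subgroup O, H.relIndex K ≠ 0 := fun H K => Subgroup.index_ne_zero_of_finite
  calc (cj g A).relIndex J ≤ Bg.relIndex J := relIndex_le_of_le_left h1 (fin _ _)
    _ ≤ Bg.relIndex (Pa : Subgroup O) := relIndex_le_of_le_right hPa (fin _ _)
    _ ≤ 2 ^ e := c4

theorem exists_conj_pow {G : Type*} [Group G] [Finite G] {O A J : Subgroup G} (hAO : A ≤ O) (hJO : J ≤ O)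
    (hJ : IsPGroup 2 J) {e : ℕ} (h4 : ¬ 2 ^ (e + 1) ∣ A.relIndex O) : ∃ g ∈ O, (cj g A).relIndex J ≤ 2 ^ e := by
  obtain ⟨g, hg⟩ := exists_conj_pow_top (O := O) (A := A.subgroupOf O) (J := J.subgroupOf O)
    (hJ.comap_of_injective _ O.subtype_injective) h4
  refine ⟨g, g.2, ?_⟩
  have e1 : (J.subgroupOf O).map O.subtype = J := by
    rw [subgroupOf_map_subtype, inf_eq_left.2 hJO]
  have e2 : (cj g (A.subgroupOf O)).map O.subtype = cj (g : G) A := by
    rw [cj, map_map, cj]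
    conv_rhs => rw [← inf_eq_left.2 hAO, ← subgroupOf_map_subtype, map_map]
    rfl
  have h1 := relIndex_map_map_of_injective (cj g (A.subgroupOf O)) (J.subgroupOf O) O.subtype_injective
  rw [e1, e2] at h1
  rw [h1]
  exact hg

end idx

variable {G : Type*} [Group G] {ι : Type*}

section side

variable {V : Subgroup G} {R B C : ι → Subgroup G} (s : SideW V R B C)
include s

/-- `|I j : (R j) B₀| ≤ 2 ^ e` -/
theorem index_le [Finite G] {i j : ι} (hij : i ≠ j) {e : ℕ} {T : Subgroup G} (hTR : T ≤ normalizer (R i : Set G))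
    (h4 : ¬ 2 ^ (e + 1) ∣ T.relIndex (normalizer (R i : Set G))) {b : G} (hb : b ∈ B i)
    (hbV : ¬ ∀ v ∈ V, b * v = v * b) (hbT : ∀ t ∈ T, b * t * b⁻¹ * t⁻¹ ∈ R i) :
    (R j ⊔ ⨅ m, B m).relIndex (B j ⊓ YY (B j) (C j)) ≤ 2 ^ e := by
  set H := normalizer (R i : Set G) with hH
  set I := B i ⊓ YY (B i) (C i) with hI
  have hnB : H ≤ normalizer (B i : Set G) := s.nB i
  have hnI : H ≤ normalizer (I : Set G) := nII s i
  let O : Subgroup G :=
    { carrier := {g | g ∈ H ∧ ∀ w ∈ B i, g * w * g⁻¹ * w⁻¹ ∈ I}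
      one_mem' := ⟨one_mem _, fun w _ => by
        have e : 1 * w * 1⁻¹ * w⁻¹ = 1 := by group
        rw [e]; exact one_mem _⟩
      mul_mem' := by
        rintro a c ⟨a1, a2⟩ ⟨c1, c2⟩
        refine ⟨mul_mem a1 c1, fun w hw => ?_⟩
        have e : a * c * w * (a * c)⁻¹ * w⁻¹ = (a * (c * w * c⁻¹ * w⁻¹) * a⁻¹) * (a * w * a⁻¹ * w⁻¹) := by group
        rw [e]
        exact mul_mem (conj_mem_of_normalizer (hnI a1) (c2 w hw)) (a2 w hw)
      inv_mem' := by
        rintro a ⟨a1, a2⟩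
        refine ⟨inv_mem a1, fun w hw => ?_⟩
        have h1 : a⁻¹ * w * a ∈ B i := conj_inv_mem_of_normalizer (hnB a1) hw
        have h2 := inv_mem (a2 _ h1)
        have e : (a * (a⁻¹ * w * a) * a⁻¹ * (a⁻¹ * w * a)⁻¹)⁻¹ = a⁻¹ * w * a⁻¹⁻¹ * w⁻¹ := by group
        rwa [e] at h2 }
  let A : Subgroup G :=
    { carrier := {g | g ∈ O ∧ g * b * g⁻¹ * b⁻¹ ∈ R i}
      one_mem' := ⟨one_mem _, by
        have e : 1 * b * 1⁻¹ * b⁻¹ = 1 := by group
        rw [e]; exact one_mem _⟩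
      mul_mem' := by
        rintro a c ⟨a1, a2⟩ ⟨c1, c2⟩
        refine ⟨mul_mem a1 c1, ?_⟩
        have e : a * c * b * (a * c)⁻¹ * b⁻¹ = (a * (c * b * c⁻¹ * b⁻¹) * a⁻¹) * (a * b * a⁻¹ * b⁻¹) := by group
        rw [e]
        exact mul_mem (conj_mem_of_normalizer a1.1 c2) a2
      inv_mem' := by
        rintro a ⟨a1, a2⟩
        refine ⟨inv_mem a1, ?_⟩
        have h1 := conj_inv_mem_of_normalizer a1.1 (inv_mem a2)
        have e : a⁻¹ * b * a⁻¹⁻¹ * b⁻¹ = a⁻¹ * (a * b * a⁻¹ * b⁻¹)⁻¹ * a := by group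
        rw [e]; exact h1 }
  have hOH : O ≤ H := fun g hg => hg.1
  have hAO : A ≤ O := fun g hg => hg.1
  have hOn : H ≤ normalizer (O : Set G) := by
    intro h hh
    refine mem_normalizer_of_conj fun a ha => ?_
    refine ⟨H.mul_mem (H.mul_mem hh ha.1) (H.inv_mem hh), fun w hw => ?_⟩
    have h1 := conj_mem_of_normalizer (hnI hh) (ha.2 _ (conj_inv_mem_of_normalizer (hnB hh) hw))
    have e : h * (a * (h⁻¹ * w * h) * a⁻¹ * (h⁻¹ * w * h)⁻¹) * h⁻¹ =
        h * a * h⁻¹ * w * (h * a * h⁻¹)⁻¹ * w⁻¹ := by group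
    rwa [e] at h1
  have hTA : T ⊓ O ≤ A := by
    rintro t ⟨ht, htO⟩
    refine ⟨htO, ?_⟩
    have h1 := inv_mem (hbT t ht)
    have e : (b * t * b⁻¹ * t⁻¹)⁻¹ = t * b * t⁻¹ * b⁻¹ := by group
    rwa [e] at h1
  have hA4 : ¬ 2 ^ (e + 1) ∣ A.relIndex O := by
    intro h
    apply h4
    refine h.trans ((relIndex_dvd_of_le_left O hTA).trans ?_)
    rw [inf_relIndex_right, relIndex_sup_of_normalizes (hTR.trans hOn)]
    exact Dvd.intro _ (relIndex_mul_relIndex _ _ _ le_sup_left (sup_le hTR hOH))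
  have hJO : B j ⊓ YY (B j) (C j) ≤ O := by
    intro u hu
    refine ⟨s.cV_le_NR (s.Y_V hu.2) i, fun w hw => ?_⟩
    have h1 := inv_mem (comm_II s hw hu.2)
    have e : (w * u * w⁻¹ * u⁻¹)⁻¹ = u * w * u⁻¹ * w⁻¹ := by group
    rwa [e] at h1
  have hJ2 : IsPGroup 2 (B j ⊓ YY (B j) (C j) : Subgroup G) := fun x => ⟨1, by
    apply Subtype.ext
    change (x : G) ^ 2 ^ 1 = 1
    rw [pow_one, pow_two]
    exact s.B_sq j _ x.2.1⟩
  obtain ⟨g, hg, hidx⟩ := exists_conj_pow hAO hJO hJ2 hA4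
  have key : ∀ u ∈ B j ⊓ YY (B j) (C j), u ∈ cj g A → InK R B j u := by
    intro u hu hug
    rw [mem_cj] at hug
    have h1 := conj_mem_of_normalizer hg.1 hug.2
    set b' := g * b * g⁻¹ with hb'
    have e1 : g * (g⁻¹ * u * g * b * (g⁻¹ * u * g)⁻¹ * b⁻¹) * g⁻¹ = u * b' * u⁻¹ * b'⁻¹ := by rw [hb']; group
    rw [e1] at h1
    have h2 := hg.2 b hb
    have hb'B : b' ∈ B i := conj_mem_of_normalizer (hnB hg.1) hb
    have hb'V : ¬ ∀ v ∈ V, b' * v = v * b' := by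
      intro hall
      apply hbV
      intro v hv
      have h3 := s.Y_V h2.2 v hv
      have e : b = (g * b * g⁻¹ * b⁻¹)⁻¹ * b' := by rw [hb']; group
      have h4 : (g * b * g⁻¹ * b⁻¹)⁻¹ * v = v * (g * b * g⁻¹ * b⁻¹)⁻¹ := by
        rw [inv_mul_eq_iff_eq_mul, ← mul_assoc, h3, mul_inv_cancel_right]
      rw [e]
      calc (g * b * g⁻¹ * b⁻¹)⁻¹ * b' * v = (g * b * g⁻¹ * b⁻¹)⁻¹ * (b' * v) := by group
        _ = ((g * b * g⁻¹ * b⁻¹)⁻¹ * v) * b' := by rw [hall v hv]; group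
        _ = v * ((g * b * g⁻¹ * b⁻¹)⁻¹ * b') := by rw [h4]; group
    have h5 := inv_mem h1
    have e2 : (u * b' * u⁻¹ * b'⁻¹)⁻¹ = b' * u * b'⁻¹ * u⁻¹ := by group
    rw [e2] at h5
    exact s.mem_R_of_comm hij hb'B hb'V hu.1 h5
  have hle : cj g A ⊓ (B j ⊓ YY (B j) (C j)) ≤ R j ⊔ ⨅ m, B m := by
    rintro u ⟨hu1, hu2⟩
    obtain ⟨r, hr, y, hy, rfl⟩ := key u hu2 hu1
    exact mul_mem (mem_sup_left hr) (mem_sup_right hy)
  calc (R j ⊔ ⨅ m, B m).relIndex (B j ⊓ YY (B j) (C j))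
      ≤ (cj g A ⊓ (B j ⊓ YY (B j) (C j))).relIndex (B j ⊓ YY (B j) (C j)) :=
        relIndex_le_of_le_left hle (Subgroup.index_ne_zero_of_finite)
    _ = (cj g A).relIndex (B j ⊓ YY (B j) (C j)) := inf_relIndex_right _ _
    _ ≤ 2 ^ e := hidx

/-- `|I i : B₀| ≤ 2 ^ (e + 1)` -/
theorem index_B0_le [Finite G] {i : ι} (hR : Nat.card (R i) = 2) {e : ℕ} {T : Subgroup G}
    (hTR : T ≤ normalizer (R i : Set G)) (h4 : ¬ 2 ^ (e + 1) ∣ T.relIndex (normalizer (R i : Set G))) {b : G}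
    (hb : b ∈ B i) (hbV : ¬ ∀ v ∈ V, b * v = v * b) (hbT : ∀ t ∈ T, b * t * b⁻¹ * t⁻¹ ∈ R i) :
    (⨅ m, B m).relIndex (B i ⊓ YY (B i) (C i)) ≤ 2 ^ (e + 1) := by
  obtain ⟨j, hji, -⟩ := s.third i i
  obtain ⟨m, -, -, x, hx, ex⟩ := s.trans_B i j
  set B₀ := ⨅ m, B m with hB₀
  set Ii := B i ⊓ YY (B i) (C i) with hIi
  have hxB₀ : cj x B₀ = B₀ := by
    rw [cj_eq_self_iff]
    refine mem_normalizer_of_conj fun y hy => ?_
    rw [s.B0_comm hy m x hx, mul_inv_cancel_right]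
    exact hy
  have h1 := index_le s (Ne.symm hji) hTR h4 hb hbV hbT
  have e1 : B j ⊓ YY (B j) (C j) = cj x Ii := by
    rw [hIi, cj_inf, s.cB x i j ex, s.cY ex]
  have e2 : R j ⊔ B₀ = cj x (R i ⊔ B₀) := by
    have h2 : cj x (R i ⊔ B₀) = cj x (R i) ⊔ cj x B₀ := by
      rw [cj, cj, cj, Subgroup.map_sup]
    rw [h2, ex, hxB₀]
  have h2 : (R i ⊔ B₀).relIndex Ii ≤ 2 ^ e := by
    rw [e1, e2] at h1
    have h3 := relIndex_map_map_of_injective (R i ⊔ B₀) Ii (f := (MulAut.conj x).toMonoidHom)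
      (MulAut.conj x).injective
    change ((R i ⊔ B₀).map (MulAut.conj x).toMonoidHom).relIndex (Ii.map (MulAut.conj x).toMonoidHom) ≤ 2 ^ e at h1
    rwa [h3] at h1
  have hRI : B₀ ≤ centralizer (R i : Set G) := by
    intro y hy
    rw [mem_centralizer_iff]
    intro r hr
    exact s.B0_comm hy i r (s.R_B i hr)
  have h3 : B₀.relIndex (R i ⊔ B₀) ≤ 2 := by
    have h4 : B₀.relIndex (R i ⊔ B₀) = B₀.relIndex (R i) := by
      rw [sup_comm]
      exact (relIndex_sup_of_normalizes (hRI.trans (centralizer_le_normalizer _))).symm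
    rw [h4, ← hR]
    exact Nat.le_of_dvd Nat.card_pos (relIndex_dvd_card _ _)
  have h5 : (B₀ ⊓ Ii).relIndex ((R i ⊔ B₀) ⊓ Ii) * ((R i ⊔ B₀) ⊓ Ii).relIndex Ii = (B₀ ⊓ Ii).relIndex Ii :=
    relIndex_mul_relIndex _ _ _ (inf_le_inf_right _ le_sup_right) inf_le_right
  rw [inf_relIndex_right, inf_relIndex_right] at h5
  rw [← h5, pow_succ']
  refine Nat.mul_le_mul ?_ h2
  have fin : ∀ H K : Subgroup G, H.relIndex K ≠ 0 := fun H K => Subgroup.index_ne_zero_of_finite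
  calc (B₀ ⊓ Ii).relIndex ((R i ⊔ B₀) ⊓ Ii) ≤ B₀.relIndex ((R i ⊔ B₀) ⊓ Ii) := by
        have h6 : B₀ ⊓ ((R i ⊔ B₀) ⊓ Ii) ≤ B₀ ⊓ Ii := inf_le_inf_left _ inf_le_right
        calc (B₀ ⊓ Ii).relIndex ((R i ⊔ B₀) ⊓ Ii) ≤ (B₀ ⊓ ((R i ⊔ B₀) ⊓ Ii)).relIndex ((R i ⊔ B₀) ⊓ Ii) :=
              relIndex_le_of_le_left h6 (fin _ _)
          _ = B₀.relIndex ((R i ⊔ B₀) ⊓ Ii) := inf_relIndex_right _ _
    _ ≤ B₀.relIndex (R i ⊔ B₀) := relIndex_le_of_le_right inf_le_left (fin _ _)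
    _ ≤ 2 := h3

/-- two of more than `2 ^ (e + 1)` elements of `I i` are congruent modulo `B₀` -/
theorem exists_mem_B0 [Finite G] {i : ι} (hR : Nat.card (R i) = 2) {e : ℕ} {T : Subgroup G}
    (hTR : T ≤ normalizer (R i : Set G)) (h4 : ¬ 2 ^ (e + 1) ∣ T.relIndex (normalizer (R i : Set G))) {b : G}
    (hb : b ∈ B i) (hbV : ¬ ∀ v ∈ V, b * v = v * b) (hbT : ∀ t ∈ T, b * t * b⁻¹ * t⁻¹ ∈ R i)
    {κ : Type*} (f : κ → G) (hf : ∀ x, f x ∈ B i ⊓ YY (B i) (C i)) (hcard : 2 ^ (e + 1) < Nat.card κ) :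
    ∃ x y, x ≠ y ∧ (f x)⁻¹ * f y ∈ ⨅ m, B m := by
  have h1 := index_B0_le s hR hTR h4 hb hbV hbT
  set B₀ := ⨅ m, B m with hB₀
  set Ii := B i ⊓ YY (B i) (C i) with hIi
  let g : κ → Ii ⧸ B₀.subgroupOf Ii := fun x => QuotientGroup.mk ⟨f x, hf x⟩
  have h2 : ¬ Function.Injective g := by
    intro hg
    have h3 := Nat.card_le_card_of_injective g hg
    have h4 : Nat.card (Ii ⧸ B₀.subgroupOf Ii) = B₀.relIndex Ii := rfl
    rw [h4] at h3
    omega
  rw [Function.Injective] at h2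
  push Not at h2
  obtain ⟨x, y, hxy, hne⟩ := h2
  refine ⟨x, y, hne, ?_⟩
  have h3 := QuotientGroup.eq.1 hxy
  exact h3

/-- **the contradiction** -/
theorem false_of_good [Finite G] {i : ι} {n : G} (hR : Nat.card (R i) = 2) (hnR : ∀ g ∈ R i, g = 1 ∨ g = n) {e : ℕ}
    {T : Subgroup G} (hTR : T ≤ normalizer (R i : Set G))
    (h4 : ¬ 2 ^ (e + 1) ∣ T.relIndex (normalizer (R i : Set G))) {b : G}
    (hb : b ∈ B i) (hbV : ¬ ∀ v ∈ V, b * v = v * b) (hbT : ∀ t ∈ T, b * t * b⁻¹ * t⁻¹ ∈ R i)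
    {κ : Type*} (f : κ → G) (hf : ∀ x, f x ∈ B i ⊓ YY (B i) (C i)) (hcard : 2 ^ (e + 1) < Nat.card κ)
    (good : ∀ x y, x ≠ y → ∃ b' ∈ B i, (¬ ∀ v ∈ V, b' * v = v * b') ∧
      n ∈ O2 (centralizer ({(f x)⁻¹ * f y} : Set G)) ∧
      ∀ q ∈ O2 (centralizer ({(f x)⁻¹ * f y} : Set G)), b' * q = q * b') : False := by
  obtain ⟨x, y, hxy, hzB⟩ := exists_mem_B0 s hR hTR h4 hb hbV hbT f hf hcard
  obtain ⟨b', hb', hbV', g1, g2⟩ := good x y hxy
  set z := (f x)⁻¹ * f y with hz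
  have hBz : ∀ k, ∀ c ∈ B k, c ∈ centralizer ({z} : Set G) := fun k c hc =>
    mem_centralizer_singleton_iff.2 (s.B0_comm hzB k c hc)
  obtain ⟨k, hki, -⟩ := s.third i i
  obtain ⟨m, -, -, w, hw, ew⟩ := s.trans_B i k
  have hRk : ∀ r ∈ R k, b' * r = r * b' := by
    intro r hr
    rw [← ew, mem_cj] at hr
    apply g2
    rcases hnR _ hr with h | h
    · have h1 : r = 1 := by
        calc r = w * (w⁻¹ * r * w) * w⁻¹ := by group
          _ = 1 := by rw [h]; group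
      rw [h1]; exact one_mem _
    · have h1 : r = w * n * w⁻¹ := by
        calc r = w * (w⁻¹ * r * w) * w⁻¹ := by group
          _ = w * n * w⁻¹ := by rw [h]
      rw [h1]
      exact conj_mem_of_normalizer (le_normalizer_O2 _ (hBz m w hw)) g1
  apply hbV'
  refine s.free i k hki b' hb' ?_
  rw [cj_eq_self_iff]
  refine mem_normalizer_of_conj fun r hr => ?_
  rw [hRk r hr, mul_inv_cancel_right]
  exact hr

end side

end Cfsg.Agent.Omega.IId.MixAny

end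

-- merged: Cfsg.Agent.Mrg.Omega.IId.Cv.MixThree
section

section


/-!
# MIX3 (helper747): a line of a natural factor against `V_{P'}`, `P'` of type `S_{2^m'+1}`

`M : NatD F S P V D k`, `|F| = 2`, `[V_P, V_{P'}] = line M l = ⟨n⟩`, `n = r_ij` (`SPos`), `V_l ≤ O₂(C_G(n))`,
`C_{V'}(O²(P')) ≠ 1`: `⟨V_l ^ C_G(n)⟩` and `⟨V_{P'} ^ C_G(n)⟩` are not both abelian.

* `relIndex_T` : `2 ^ m' ∤ |C_G(n) : C_{S'}(n)|`;
* `mix_three`.
-/

set_option autoImplicit false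
set_option linter.unusedSectionVars false

namespace Cfsg.Agent.Omega.IId.Cv.MixThree

open Subgroup Pointwise Cfsg Cfsg.Agent.ZN.ChoiceBase
open Cfsg.Agent.ZN (o2 zc zl)
open Cfsg.Agent.Omega.MinPar Cfsg.Agent.Omega.Frame Cfsg.Agent.Omega.FFThm Cfsg.Agent.Omega.FrameMulti
open Cfsg.Agent.Omega.FrameFF (cv Free)
open Cfsg.Agent.Omega.S5.Def Cfsg.Agent.Omega.S5.Syl
open Cfsg.Agent.Omega.NSix.Base Cfsg.Agent.Omega.NSix.Basic Cfsg.Agent.Omega.NSix.FixApp
open Cfsg.Agent.Omega.IId.MixAny (Node Pt tr mem_zp false_of_good)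
open Cfsg.Agent.Omega.IId.NV (clC conj_mem_clC le_clC clC_conj clC_le clC_comm clC_sq)


universe u

variable {G : Type u} [Group G] [Finite G]

section index

variable {S : Sylow 2 G} {P : Subgroup G} {m : ℕ} {A : Subgroup G} {ε : (Fin (2 ^ m + 1) → ZMod 2) → G}

/-- the data of `NSix.CosetAct` (with `W = 1`) -/
theorem hyp_of (h : F4Leaf.Pos.Sit S P m A ε) {i j : Fin (2 ^ m + 1)} (hij : i ≠ j)
    (hsw : ∃ a ∈ (S : Subgroup G), Acts ε a (Equiv.swap i j)) : NSix.CosetAct.Hyp A P (S : Subgroup G) ⊥ ε i j where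
  even := h.split.even
  VP := h.A_le_P
  two_le := h.m2
  le := h.par.le
  isP := S.isPGroup'
  max := fun T hT => by
    obtain ⟨R, hR⟩ := hT.exists_le_sylow
    have h1 : Nat.card (R : Subgroup G) = Nat.card (S : Subgroup G) := by
      rw [R.card_eq_multiplicity, S.card_eq_multiplicity]
    rw [← h1]
    exact Subgroup.card_le_of_le hR
  fix0 := h.split.fix0
  ne := hij
  swap := hsw
  isPW := IsPGroup.of_bot
  leW := bot_le
  norm := by
    intro g _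
    rw [mem_normalizer_iff]
    intro x
    rw [mem_bot, mem_bot]
    constructor
    · rintro rfl
      group
    · intro hx
      calc x = g⁻¹ * (g * x * g⁻¹) * g := by group
        _ = 1 := by rw [hx]; group

/-- `2 ^ m ∤ |C_G(n) : C_S(n)|` -/
theorem relIndex_T (h : F4Leaf.Pos.Sit S P m A ε) {i j : Fin (2 ^ m + 1)} (hij : i ≠ j)
    (hsw : ∃ a ∈ (S : Subgroup G), Acts ε a (Equiv.swap i j)) :
    ¬ 2 ^ m ∣ ((S : Subgroup G) ⊓ NN ε i j).relIndex (NN ε i j) := by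
  have hf : Fact (Nat.Prime 2) := ⟨Nat.prime_two⟩
  intro hd
  have h1 := (hyp_of h hij hsw).relIndex_S_le
  set T := (S : Subgroup G) ⊓ NN ε i j with hT
  have h1' : T.relIndex (S : Subgroup G) ≤ 2 ^ (m - 1) := h1
  have h2 := Half.card_mul_relIndex (inf_le_left : T ≤ (S : Subgroup G))
  have h3 := Half.card_mul_relIndex (inf_le_right : T ≤ NN ε i j)
  obtain ⟨t, ht⟩ := IsPGroup.iff_card.1 (S.isPGroup'.to_le (inf_le_left : T ≤ (S : Subgroup G)))
  have h4 : 2 ^ (t + m) ∣ Nat.card G := by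
    rw [pow_add, ← ht]
    exact ((Nat.mul_dvd_mul_left _ hd).trans (dvd_of_eq h3)).trans (Subgroup.card_subgroup_dvd_card _)
  have h5 : 2 ^ (t + m) ∣ Nat.card S := S.pow_dvd_card_of_pow_dvd_card h4
  have h6 := Nat.le_of_dvd Nat.card_pos h5
  rw [← h2, ht, pow_add] at h6
  have h7 : 2 ^ m ≤ T.relIndex (S : Subgroup G) := Nat.le_of_mul_le_mul_left h6 (by positivity)
  have h8 : 2 ^ m ≤ 2 ^ (m - 1) := h7.trans h1'
  have h9 : m ≤ m - 1 := (Nat.pow_le_pow_iff_right (by norm_num : 1 < 2)).1 h8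
  have := h.m2
  omega

/-- `r_iq` is moved by an element which acts as `(i j)`. -/
theorem move_of (h : EvenSet (2 ^ m + 1) A P ε) (hm : 1 ≤ m) {i j q : Fin (2 ^ m + 1)} (hij : i ≠ j) (hi : q ≠ i)
    (hj : q ≠ j) {v : G} (hv : Acts ε v (Equiv.swap i j)) : rr ε i q * v ≠ v * rr ε i q := by
  intro h0
  have h1 := rr_conj hv i q
  rw [Equiv.swap_apply_left, Equiv.swap_apply_of_ne_of_ne hi hj, ← h0, mul_inv_cancel_right] at h1
  have h2 : rr ε i j = 1 := by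
    rw [← rr_add h i q j, h1, rr_symm h j q]
    exact rr_sq h q j
  exact rr_ne_one h (three_le hm) hij h2

end index

variable {S S' : Sylow 2 G} {P P' V D : Subgroup G} {F : Type} [Field F]
  [Finite F] [CharP F 2] {k m' : ℕ} {A : Subgroup G} {ε : (Fin (2 ^ m' + 1) → ZMod 2) → G}

/-- `N_G(line M l) = C_G(n)` -/
theorem normalizer_line {M : NatD F S P V D k} {l : Fin k} {i j : Fin (2 ^ m' + 1)}
    (h : SymD.SPos M S' P' m' A ε l i j) : normalizer (NV.line M.toNatV l : Set G) = NN ε i j := by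
  have hm := h.mem
  have hn1 : rr ε i j ≠ 1 := rr_ne_one h.sit.split.even h.sit.three h.ne
  ext g
  rw [mem_NN']
  constructor
  · intro hg
    have h8 : g * rr ε i j * g⁻¹ ∈ NV.line M.toNatV l :=
      (mem_normalizer_iff.1 hg _).1 ((hm _).2 (Or.inr rfl))
    rcases (hm _).1 h8 with h9 | h9
    · exfalso
      have h10 : rr ε i j = 1 := by
        have h11 : rr ε i j = g⁻¹ * (g * rr ε i j * g⁻¹) * g := by group
        rw [h11, h9]; group
      exact hn1 h10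
    · exact h9
  · intro hg
    rw [mem_normalizer_iff]
    intro x
    have hg' : g⁻¹ * rr ε i j * g = rr ε i j := by
      calc g⁻¹ * rr ε i j * g = g⁻¹ * (g * rr ε i j * g⁻¹) * g := by rw [hg]
        _ = rr ε i j := by group
    change x ∈ NV.line M.toNatV l ↔ g * x * g⁻¹ ∈ NV.line M.toNatV l
    rw [hm, hm]
    constructor
    · rintro (rfl | rfl)
      · left; group
      · right; exact hg
    · rintro (h8 | h8)
      · left
        have h9 : x = g⁻¹ * (g * x * g⁻¹) * g := by group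
        rw [h9, h8]; group
      · right
        have h9 : x = g⁻¹ * (g * x * g⁻¹) * g := by group
        rw [h9, h8, hg']

/-- **MIX3** -/
theorem mix_three {M : NatD F S P V D k} {l : Fin k} {i j : Fin (2 ^ m' + 1)}
    (h : SymD.SPos M S' P' m' A ε l i j) (hD' : cv (S' : Subgroup G) P' ≠ ⊥)
    (hle : NV.fac M.toNatV l ≤ o2 (NN ε i j)) (hu : ¬ UnM M l)
    (hw : ∀ g ∈ NN ε i j, ∀ v ∈ zl (S' : Subgroup G) P', ∀ w ∈ zl (S' : Subgroup G) P',
      v * (g * w * g⁻¹) = g * w * g⁻¹ * v) : False := by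
  classical
  have hs := h.sit
  have hE := hs.split.even
  have hij := h.ne
  have hm2 := hs.m2
  set n := rr ε i j with hn
  set Q := o2 (NN ε i j) with hQ
  have hnn : n * n = 1 := rr_sq hE i j
  have hn1 : n ≠ 1 := rr_ne_one hE hs.three hij
  have hNl := normalizer_line h
  have hu' : ∀ g ∈ NN ε i j, ∀ v ∈ NV.fac M.toNatV l, ∀ w ∈ NV.fac M.toNatV l,
      v * (g * w * g⁻¹) = g * w * g⁻¹ * v := by
    rw [← hNl]
    exact NV.comm_of_not_unM hu
  have hAz : A ≤ zl (S' : Subgroup G) P' := hs.split.A_le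
  have hrz : ∀ a b, rr ε a b ∈ zl (S' : Subgroup G) P' := fun a b => hAz (rr_mem hE a b)
  have hsq' : ∀ v ∈ zl (S' : Subgroup G) P', v * v = 1 := fun v hv => by
    have := hs.V_sq hv
    rwa [pow_two] at this
  -- an element of `fac` which acts as `(i j)`
  obtain ⟨v₀, hv₀, he₀⟩ := NV.exists_fac M.toNatV l ![0, 1]
  have hact : Acts ε v₀ (Equiv.swap i j) := h.fac v₀ hv₀ (by rw [he₀]; exact one_ne_zero)
  have hV₀S : v₀ ∈ (S' : Subgroup G) := h.pair.le' (M.V_le hv₀.1)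
  have hsw : ∃ a ∈ (S' : Subgroup G), Acts ε a (Equiv.swap i j) := ⟨v₀, hV₀S, hact⟩
  have hyp := hyp_of hs hij hsw
  have hi0 : i ≠ 0 := hyp.i_ne_zero
  have hj0 : j ≠ 0 := hyp.j_ne_zero
  set W' := clC (NN ε i j) (zl (S' : Subgroup G) P') with hW'
  set W := clC (NN ε i j) (NV.fac M.toNatV l) with hW
  have hzW' : zl (S' : Subgroup G) P' ≤ W' := le_clC
  have hWQ : W ≤ Q := clC_le (Cfsg.Agent.MinSimple.VModule.le_normalizer_o2 _) hle
  have hcC : ∀ g : G, g * n = n * g → g ∈ NN ε i j := fun g hg => mem_NN.2 hg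
  have N : Node (NV.fac M.toNatV l) W' W n :=
    { card := by rw [NV.card_fac, h.two]; norm_num
      sq := fun v hv => NV.sq M.toNatV hv.1
      n_mem := NV.line_le M.toNatV l ((h.mem n).2 (Or.inr rfl))
      n_ne := hn1
      trans := by
        intro v hv hv1
        obtain ⟨g, hg, e⟩ := NV.exists_grp M.toNatV (NV.line_le M.toNatV l ((h.mem n).2 (Or.inr rfl))) hv hn1 hv1
        exact ⟨g, NV.grp_normalizes _ {l} {l} hg, e⟩
      nA := fun c hc a ha => clC_conj (hcC c hc) ha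
      nC := fun c hc a ha => clC_conj (hcC c hc) ha
      A_comm := clC_comm hw
      A_sq := clC_sq hw hsq'
      C_comm := clC_comm hu'
      C_sq := clC_sq hu' fun v hv => NV.sq M.toNatV hv.1
      n_A := hzW' (hrz i j)
      V_C := le_clC
      CA := by
        intro c hc a ha
        have h1 := hs.ww_conj hij (w := a) (x := c) ha (hWQ hc)
        have hcn : c * n = n * c := mem_NN.1 (Cfsg.Agent.MinSimple.VModule.o2_le _ (hWQ hc))
        rcases h1 with h1 | h1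
        · left
          have h2 : a * c = c * a := mul_inv_eq_iff_eq_mul.1 h1
          rw [← h2]
          group
        · right
          have h2 : a * c = c * n * a := mul_inv_eq_iff_eq_mul.1 h1
          have h3 : n * c * a = a * c := by rw [h2, hcn]
          have h4 : c * a = n * (a * c) := by
            calc c * a = (n * n) * (c * a) := by rw [hnn, one_mul]
              _ = n * (n * c * a) := by group
              _ = n * (a * c) := by rw [h3]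
          rw [h4]
          group
      move := by
        refine ⟨rr ε i 0, hzW' (hrz i 0), v₀, hv₀, ?_⟩
        exact move_of hE (by omega) hij hi0.symm hj0.symm hact }
  have s := N.side
  let x₀ : Pt (NV.fac M.toNatV l) := ⟨n, N.n_mem, hn1⟩
  have hB : tr W' n x₀.1 = W' := N.tr_n
  have hC : tr W n x₀.1 = W := N.tr_n'
  have hmoveW : ∀ q, q ≠ i → q ≠ j → ¬ ∀ v ∈ NV.fac M.toNatV l, rr ε i q * v = v * rr ε i q := fun q hqi hqj hall =>
    move_of hE (by omega) hij hqi hqj hact (hall v₀ hv₀)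
  -- labels
  let κ := {y : Fin (2 ^ m' + 1) // y ≠ i ∧ y ≠ j} × cv (S' : Subgroup G) P'
  let f : κ → G := fun p => rr ε 0 p.1.1 * (p.2 : G)
  have hcv : ∀ d ∈ cv (S' : Subgroup G) P', ∀ g ∈ P', g * d = d * g := fun d hd g hg => hs.V0_comm hd hg
  have hfz : ∀ p : κ, f p ∈ zl (S' : Subgroup G) P' := fun p => mul_mem (hrz _ _) (hs.V0_le p.2.2)
  have hfQ : ∀ p : κ, ∀ x ∈ Q, f p * x = x * f p := by
    intro p x hx
    have h1 : rr ε 0 p.1.1 ∈ Vn ε i j := rr_mem_Vn ⟨hi0.symm, hj0.symm⟩ p.1.2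
    have h2 := (hs.vn_cen hij h1).2 x hx
    have h3 := hs.comm_V0 hij hx p.2.2
    calc rr ε 0 p.1.1 * (p.2 : G) * x = rr ε 0 p.1.1 * ((p.2 : G) * x) := by group
      _ = rr ε 0 p.1.1 * x * p.2 := by rw [← h3]; group
      _ = x * (rr ε 0 p.1.1 * p.2) := by rw [h2]; group
  have hcard : 2 ^ m' < Nat.card κ := by
    have h1 : Nat.card κ = (2 ^ m' - 1) * Nat.card (cv (S' : Subgroup G) P') := by
      rw [Nat.card_prod, Nat.card_eq_fintype_card, hyp.card_Lam]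
    have h2 : 1 < Nat.card (cv (S' : Subgroup G) P') := (Subgroup.one_lt_card_iff_ne_bot _).2 hD'
    have h3 : 2 ^ 2 ≤ 2 ^ m' := Nat.pow_le_pow_right (by norm_num) hm2
    rw [h1]
    calc 2 ^ m' < (2 ^ m' - 1) * 2 := by omega
      _ ≤ _ := Nat.mul_le_mul_left _ h2
  have hR2 : Nat.card (zpowers x₀.1) = 2 := by
    rw [Nat.card_zpowers]
    refine orderOf_eq_prime ?_ hn1
    rw [pow_two]
    exact hnn
  have hem : m' - 1 + 1 = m' := by omega
  have hzN : normalizer (zpowers x₀.1 : Set G) = NN ε i j := N.norm_zp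
  refine false_of_good s (i := x₀) (n := n) hR2 (fun g hg => (mem_zp hnn).1 hg) (e := m' - 1)
    (T := (S' : Subgroup G) ⊓ NN ε i j) ?_ ?_ (b := rr ε i 0) ?_ (hmoveW 0 hi0.symm hj0.symm) ?_ f ?_ ?_ ?_
  · rw [hzN]; exact inf_le_right
  · rw [hem, hzN]
    exact relIndex_T hs hij hsw
  · change rr ε i 0 ∈ tr W' n x₀.1
    rw [hB]
    exact hzW' (hrz i 0)
  · rintro t ⟨ht, htn⟩
    change rr ε i 0 * t * (rr ε i 0)⁻¹ * t⁻¹ ∈ zpowers n
    rw [mem_zp hnn]
    obtain ⟨σ, hσ⟩ := hE.perm t (hs.par.le ht)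
    have h0 := hs.split.fix0 t ht σ hσ
    have hp := hyp.pair_of_acts hσ (mem_NN.1 htn)
    have h1 := rr_conj hσ i 0
    rw [h0] at h1
    have h2 : rr ε i 0 * t * (rr ε i 0)⁻¹ * t⁻¹ = rr ε i 0 * (t * rr ε i 0 * t⁻¹) := by
      rw [rr_inv hE]; group
    rw [h2, h1]
    rcases hp with ⟨h3, -⟩ | ⟨h3, -⟩
    · left
      rw [h3]
      exact rr_sq hE i 0
    · right
      rw [h3, rr_symm hE j 0]
      exact rr_add hE i 0 j
  · intro p
    change f p ∈ tr W' n x₀.1 ⊓ Cfsg.Agent.Omega.Mix.YY (tr W' n x₀.1) (tr W n x₀.1)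
    rw [hB, hC]
    refine mem_inf.2 ⟨hzW' (hfz p), ?_⟩
    rw [Cfsg.Agent.Omega.Mix.mem_YY]
    exact ⟨fun y hy => clC_comm hw _ (hzW' (hfz p)) y hy, fun y hy => hfQ p y (hWQ hy)⟩
  · rw [hem]; exact hcard
  · rintro ⟨⟨y, hy⟩, ⟨d, hd⟩⟩ ⟨⟨y', hy'⟩, ⟨d', hd'⟩⟩ hne
    have hd0 : d⁻¹ * d' ∈ cv (S' : Subgroup G) P' := mul_mem (inv_mem hd) hd'
    have hrP : rr ε y y' ∈ P' := hs.A_le_P (rr_mem hE y y')
    have ez : (f (⟨y, hy⟩, ⟨d, hd⟩))⁻¹ * f (⟨y', hy'⟩, ⟨d', hd'⟩) = rr ε y y' * (d⁻¹ * d') := by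
      change (rr ε 0 y * d)⁻¹ * (rr ε 0 y' * d') = _
      have h1 : rr ε y 0 * rr ε 0 y' = rr ε y y' := rr_add hE y 0 y'
      have h2 : rr ε y y' * d⁻¹ = d⁻¹ * rr ε y y' := hcv _ (inv_mem hd) _ hrP
      rw [mul_inv_rev, rr_inv hE, rr_symm hE 0 y]
      calc d⁻¹ * rr ε y 0 * (rr ε 0 y' * d') = d⁻¹ * (rr ε y 0 * rr ε 0 y') * d' := by group
        _ = rr ε y y' * (d⁻¹ * d') := by rw [h1, ← h2]; group
    rw [ez]
    by_cases hyy : y = y'
    · subst hyy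
      have h1 : rr ε y y = 1 := zz_sq hE y
      rw [h1, one_mul]
      have h2 : d⁻¹ * d' ≠ 1 := by
        intro h3
        apply hne
        have h4 : d = d' := inv_mul_eq_one.1 h3
        subst h4
        rfl
      obtain ⟨g1, g2⟩ := hs.cen_V hd0 h2
      refine ⟨rr ε i 0, ?_, hmoveW 0 hi0.symm hj0.symm, g1 (hrz i j), fun q hq => ?_⟩
      · change rr ε i 0 ∈ tr W' n x₀.1
        rw [hB]
        exact hzW' (hrz i 0)
      · exact mem_centralizer_iff.1 (g2 hq) _ (hrz i 0)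
    · obtain ⟨q, hq, hqy, hqy'⟩ := hyp.exists_third y y'
      have hVn : rr ε i j ∈ Vn ε y y' := rr_mem_Vn ⟨hy.1.symm, hy'.1.symm⟩ ⟨hy.2.symm, hy'.2.symm⟩
      have hVq : rr ε i q ∈ Vn ε y y' := rr_mem_Vn ⟨hy.1.symm, hy'.1.symm⟩ ⟨hqy, hqy'⟩
      refine ⟨rr ε i q, ?_, hmoveW q hq.1 hq.2, (VnD.vn_cen_mul hs hd0 hyy hVn).1,
        (VnD.vn_cen_mul hs hd0 hyy hVq).2⟩
      change rr ε i q ∈ tr W' n x₀.1
      rw [hB]
      exact hzW' (hrz i q)

end Cfsg.Agent.Omega.IId.Cv.MixThree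

end

section


/-!
# `CvSymMix` is proved: MIX2 for a partner of type `S_{2^m'+1}` (helper994)

`E' = {1, r_ij, r_ip, r_jp}`, `p ≠ i, j` (even subsets of `{i, j, p}`).
-/

set_option autoImplicit false
set_option linter.unusedSectionVars false

namespace Cfsg.Agent.Omega.IId.Cv

open Subgroup Pointwise Cfsg Cfsg.Agent.ZN.ChoiceBase
open Cfsg.Agent.ZN (o2 zc zl)
open Cfsg.Agent.Omega.MinPar Cfsg.Agent.Omega.Frame Cfsg.Agent.Omega.FFThm Cfsg.Agent.Omega.FrameMulti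
open Cfsg.Agent.Omega.FrameFF (cv Free)
open Cfsg.Agent.Omega.S5.Def
open Cfsg.Agent.Omega.NSix.Base Cfsg.Agent.Omega.NSix.Basic
open Cfsg.Agent.Omega.IId.NV (KX mem_KX)

universe u


/-- **`CvSymMix`** -/
theorem cvSymMix : CvSymMix.{u} := by
  intro G _ _ S S' P P' V D F _ _ _ M m' A ε l i j hp hD hu hw
  have hs := hp.sit
  have hij := hp.ne
  have hev := hs.split.even
  have hn : 5 ≤ 2 ^ m' + 1 := S5.Syl.five_le hs.m2
  obtain ⟨p, hpi, hpj⟩ : ∃ p : Fin (2 ^ m' + 1), p ≠ i ∧ p ≠ j := by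
    by_contra hc
    push Not at hc
    have h1 : (Finset.univ : Finset (Fin (2 ^ m' + 1))).card ≤ ({i, j} : Finset (Fin (2 ^ m' + 1))).card := by
      refine Finset.card_le_card fun x _ => ?_
      rw [Finset.mem_insert, Finset.mem_singleton]
      by_cases hx : x = i
      · exact Or.inl hx
      · exact Or.inr (hc x hx)
    have h2 : ({i, j} : Finset (Fin (2 ^ m' + 1))).card ≤ 2 := Finset.card_le_two
    rw [Finset.card_univ, Fintype.card_fin] at h1
    omega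
  obtain ⟨l', hl'⟩ := exists_ne l
  have hn1 : rr ε i j ≠ 1 := rr_ne_one hev (by omega) hij
  have hrl : rr ε i j ∈ NV.line M.toNatV l := (hp.mem _).2 (Or.inr rfl)
  have hN : normalizer (NV.line M.toNatV l : Set G) = NN ε i j :=
    NV.normalizer_line_eq M hp.two hrl hn1
  have hEA : E3 hev i j p ≤ A := by
    intro x hx
    rcases mem_E3.1 hx with rfl | rfl | rfl | rfl
    · exact one_mem _
    · exact rr_mem hev _ _
    · exact rr_mem hev _ _
    · exact rr_mem hev _ _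
  have hEV : E3 hev i j p ≤ zl (S' : Subgroup G) P' := hEA.trans hs.split.A_le
  have m1 : rr ε i j ∈ E3 hev i j p := mem_E3.2 (Or.inr (Or.inl rfl))
  have m2 : rr ε i p ∈ E3 hev i j p := mem_E3.2 (Or.inr (Or.inr (Or.inl rfl)))
  have m3 : rr ε j p ∈ E3 hev i j p := mem_E3.2 (Or.inr (Or.inr (Or.inr rfl)))
  refine NV.mix_two M hp.two hl'.symm (E := E3 hev i j p) ?_ (card_E3 hev hn hij hpi.symm hpj.symm) ?_ ?_ ?_ ?_ ?_ ?_
  · -- `V_l` is mixed
    intro g hg v hv w hw'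
    by_contra hne
    exact hu ⟨g, hg, v, hv, w, hw', hne⟩
  · intro e he
    exact hev.sq_mem (hEA he)
  · intro x hx
    rcases (hp.mem x).1 hx with rfl | rfl
    · exact one_mem _
    · exact m1
  · -- transitivity
    intro u hu' hu1 v hv hv1
    rcases (hp.mem u).1 hu' with rfl | rfl
    · exact absurd rfl hu1
    rcases mem_E3.1 hv with rfl | rfl | rfl | rfl
    · exact absurd rfl hv1
    · exact ⟨1, one_mem _, by group⟩
    · obtain ⟨g, hg, hσ⟩ := hev.full (Equiv.swap j p)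
      have e1 : Equiv.swap j p i = i := Equiv.swap_apply_of_ne_of_ne hij hpi.symm
      have e2 : Equiv.swap j p j = p := Equiv.swap_apply_left _ _
      have e3 : Equiv.swap j p p = j := Equiv.swap_apply_right _ _
      refine ⟨g, norm_E3 hev hσ ?_ ?_ ?_, ?_⟩
      · rw [e1, e2]; exact m2
      · rw [e1, e3]; exact m1
      · rw [e2, e3, rr_symm hev]; exact m3
      · rw [rr_conj hσ, e1, e2]
    · obtain ⟨g, hg, hσ⟩ := hev.full (Equiv.swap i p)
      have e1 : Equiv.swap i p j = j := Equiv.swap_apply_of_ne_of_ne hij.symm hpj.symm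
      have e2 : Equiv.swap i p i = p := Equiv.swap_apply_left _ _
      have e3 : Equiv.swap i p p = i := Equiv.swap_apply_right _ _
      refine ⟨g, norm_E3 hev hσ ?_ ?_ ?_, ?_⟩
      · rw [e1, e2, rr_symm hev]; exact m3
      · rw [e2, e3, rr_symm hev]; exact m2
      · rw [e1, e3, rr_symm hev]; exact m1
      · rw [rr_conj hσ, e1, e2, rr_symm hev]
  · -- `E3 ≤ KX`
    intro e he
    rw [mem_KX]
    refine ⟨fun y hy => ?_, fun q hq => ?_⟩
    · rcases (hp.mem y).1 hy with rfl | rfl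
      · rw [mul_one, one_mul]
      · exact hev.comm_mem (hEA he) (rr_mem hev _ _)
    · rw [hN] at hq
      rw [hp.mem]
      have hee : e⁻¹ = e := inv_eq_of_mul_eq_one_left (hev.sq_mem (hEA he))
      rcases hs.conj_V hij hq (hEV he) with h1 | h1
      · left
        calc e * q * e⁻¹ * q⁻¹ = e * (q * e⁻¹ * q⁻¹) := by group
          _ = 1 := by rw [hee, h1]; exact hev.sq_mem (hEA he)
      · right
        calc e * q * e⁻¹ * q⁻¹ = e * (q * e⁻¹ * q⁻¹) := by group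
          _ = e * (e * rr ε i j) := by rw [hee, h1]
          _ = rr ε i j := by rw [← mul_assoc, hev.sq_mem (hEA he), one_mul]
  · -- `move`
    obtain ⟨v, hv, he⟩ := NV.exists_fac M.toNatV l ![0, 1]
    have h1 := hp.fac v hv (by rw [he]; exact one_ne_zero)
    refine ⟨rr ε i p, m2, v, hv, fun h2 => ?_⟩
    have h3 := rr_conj h1 i p
    rw [← h2, mul_inv_cancel_right, Equiv.swap_apply_left, Equiv.swap_apply_of_ne_of_ne hpi hpj] at h3
    exact NSix.TkPair.rr_ne hev hn hpi.symm hij.symm hpi h3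
  · intro g hg v hv w hw'
    rw [hN] at hg
    exact hw g hg v (hEV hv) w (hEV hw')

end Cfsg.Agent.Omega.IId.Cv

end

end
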