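import Cfsg.Agent.Mrg.Omega.BTwo.LemL
import Cfsg.Agent.Mrg.Omega.BTwo.Key
import Cfsg.Agent.Mrg.Omega.BTwo.EntryC
import Cfsg.Agent.Mrg.Omega.IId.Cv.Cut
import Cfsg.Agent.Mrg.Omega.Mix.Entry

-- merged: Cfsg.Agent.Mrg.Omega.IId.Cv.TwoFourK
section

section


/-!
# `V` with its lines `R i` and root groups `K i ≤ Q i` (helper796)

`KT V L R K` : `BTwo.BT` with `WW V (R i)` replaced by a family `K i` (also: mixed partners, `K i = KX (R i)`) and
`N_G(V)` by a subgroup `L` (which permutes the lines; no hypothesis on `N_G(V)`).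
-/

set_option autoImplicit false

namespace Cfsg.Agent.Omega.IId.Cv.TwoFour

open Subgroup Cfsg.Agent.Omega.BTwo

variable {G : Type*} [Group G] {ι : Type*}

structure KT (V L : Subgroup G) (R K : ι → Subgroup G) : Prop where
  V_comm : ∀ a ∈ V, ∀ b ∈ V, a * b = b * a
  V_sq : ∀ a ∈ V, a * a = 1
  R_le : ∀ i, R i ≤ V
  R_inf : ∀ i j, i ≠ j → R i ⊓ R j = ⊥
  R_sup : ∀ i j, i ≠ j → R i ⊔ R j = V
  R_cov : ∀ v ∈ V, ∃ i, v ∈ R i
  R_ne : ∀ i, R i ≠ ⊥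
  third : ∀ i j : ι, ∃ k, k ≠ i ∧ k ≠ j
  L_V : L ≤ normalizer (V : Set G)
  perm : ∀ g ∈ L, ∀ i, ∃ j, cj g (R i) = R j
  V_Q : ∀ i, V ≤ QQ (R i)
  Q_L : ∀ i, QQ (R i) ≤ L
  QV : ∀ i, ∀ g ∈ QQ (R i), ∀ v ∈ V, g * v * g⁻¹ * v⁻¹ ∈ R i
  QR : ∀ i, ∀ g ∈ QQ (R i), ∀ a ∈ R i, g * a = a * g
  K_Q : ∀ i, K i ≤ QQ (R i)
  KQ : ∀ i, ∀ g ∈ QQ (R i), ∀ t ∈ K i, g * t * g⁻¹ * t⁻¹ ∈ R i
  cj_K : ∀ (g : G) (i j : ι), cj g (R i) = R j → cj g (K i) = K j
  tr : ∀ i j k : ι, j ≠ i → k ≠ i → ∃ t ∈ K i, cj t (R j) = R k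
  cenU : ∀ i, ∀ x ∈ QQ (R i), (∀ u ∈ K i, u ∈ centralizer (V : Set G) → x * u = u * x) →
    ∃ v ∈ V, v⁻¹ * x ∈ centralizer (K i : Set G)

/-- `X = ⟨K i⟩` -/
def XK (K : ι → Subgroup G) : Subgroup G := ⨆ i, K i

theorem K_le_X (K : ι → Subgroup G) (i : ι) : K i ≤ XK K := le_iSup K i

/-- `U i = C_{K i}(V)` -/
def UK (V : Subgroup G) (K : ι → Subgroup G) (i : ι) : Subgroup G := K i ⊓ centralizer (V : Set G)

theorem UK_le_K (V : Subgroup G) (K : ι → Subgroup G) (i : ι) : UK V K i ≤ K i := inf_le_left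

theorem UK_le_cen (V : Subgroup G) (K : ι → Subgroup G) (i : ι) : UK V K i ≤ centralizer (V : Set G) := inf_le_right

theorem cen_XK_le (K : ι → Subgroup G) (i : ι) :
    centralizer (XK K : Set G) ≤ centralizer (K i : Set G) := centralizer_le (K_le_X K i)

/-- `BT` gives `KT` -/
theorem KT.ofBT {V : Subgroup G} {R : ι → Subgroup G} (b : BT V R) :
    KT V (normalizer (V : Set G)) R (fun i => WW V (R i)) where
  V_comm := b.V_comm
  V_sq := b.V_sq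
  R_le := b.R_le
  R_inf := b.R_inf
  R_sup := b.R_sup
  R_cov := b.R_cov
  R_ne := b.R_ne
  third := b.third
  L_V := le_rfl
  perm := b.perm
  V_Q := b.V_Q
  Q_L := b.Q_le_NV
  QV := b.QV
  QR := b.QR
  K_Q := b.W_le_Q
  KQ := fun i _ hg _ ht => b.WQ i hg ht
  cj_K := fun _ _ _ h => b.cj_WW h
  tr := fun i _ _ hj hk => b.trans i hj hk
  cenU := fun _ _ hx hu => b.cen_U hx fun u hu' => hu u hu'.1 hu'.2

namespace KT

variable {V L : Subgroup G} {R K : ι → Subgroup G} (b : KT V L R K)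
include b

theorem R_index {i j : ι} (h : R i = R j) : i = j := by
  by_contra hne
  have := b.R_inf i j hne
  rw [h, inf_idem] at this
  exact b.R_ne j this

theorem eq_one {i j : ι} (hij : i ≠ j) {a : G} (h1 : a ∈ R i) (h2 : a ∈ R j) : a = 1 := by
  have : a ∈ R i ⊓ R j := ⟨h1, h2⟩
  rw [b.R_inf i j hij] at this
  exact mem_bot.1 this

theorem exists_ne (i : ι) : ∃ a ∈ R i, a ≠ 1 := by
  by_contra hc
  push Not at hc
  exact b.R_ne i ((eq_bot_iff_forall _).2 hc)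

theorem Q_le (i : ι) : QQ (R i) ≤ normalizer (R i : Set G) := by
  have _ := b
  exact O2_le _

theorem K_le_N (i : ι) : K i ≤ normalizer (R i : Set G) := (b.K_Q i).trans (b.Q_le i)

theorem N_K (i : ι) : normalizer (R i : Set G) ≤ normalizer (K i : Set G) := fun g hg =>
  cj_eq_self_iff.1 (b.cj_K g i i (cj_eq_self_iff.2 hg))

theorem conj_R {i : ι} {g : G} (hg : g ∈ QQ (R i)) {a : G} (ha : a ∈ R i) : g * a * g⁻¹ = a := by
  rw [b.QR i g hg a ha, mul_inv_cancel_right]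

theorem Q_le_NV (i : ι) : QQ (R i) ≤ normalizer (V : Set G) := (b.Q_L i).trans b.L_V

theorem K_le_L (i : ι) : K i ≤ L := (b.K_Q i).trans (b.Q_L i)

theorem X_le_L : XK K ≤ L := iSup_le fun i => b.K_le_L i

theorem K_le_NV (i : ι) : K i ≤ normalizer (V : Set G) := (b.K_Q i).trans (b.Q_le_NV i)

theorem X_le_NV : XK K ≤ normalizer (V : Set G) := iSup_le fun i => b.K_le_NV i

theorem cj_QQ {g : G} {i j : ι} (h : cj g (R i) = R j) : cj g (QQ (R i)) = QQ (R j) := by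
  have _ := b
  rw [cj_O2, ← normalizer_cj, h]

theorem X_eq {i j : ι} (hij : i ≠ j) : XK K = K i ⊔ K j := by
  apply le_antisymm
  · refine iSup_le fun k => ?_
    by_cases hk : k = i
    · subst hk; exact le_sup_left
    obtain ⟨t, ht, e⟩ := b.tr i j k (Ne.symm hij) hk
    rw [← b.cj_K t j k e, cj_le_iff]
    intro x hx
    have h1 : t ∈ K i ⊔ K j := (le_sup_left : K i ≤ _) ht
    exact mul_mem (mul_mem h1 ((le_sup_right : K j ≤ _) hx)) (inv_mem h1)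
  · exact sup_le (K_le_X K i) (K_le_X K j)

theorem trans_X_one (i k : ι) : ∃ x ∈ XK K, cj x (R i) = R k := by
  obtain ⟨m, hm1, hm2⟩ := b.third i k
  obtain ⟨t, ht, e⟩ := b.tr m i k (Ne.symm hm1) (Ne.symm hm2)
  exact ⟨t, K_le_X K m ht, e⟩

theorem trans_X {i j k l : ι} (hij : i ≠ j) (hkl : k ≠ l) :
    ∃ x ∈ XK K, cj x (R i) = R k ∧ cj x (R j) = R l := by
  obtain ⟨x, hx, e1⟩ := b.trans_X_one i k
  obtain ⟨j', e2⟩ := b.perm x (b.X_le_L hx) j
  have hj' : j' ≠ k := by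
    rintro rfl
    exact hij (b.R_index (cj_injective (e1.trans e2.symm)))
  obtain ⟨t, ht, e3⟩ := b.tr k j' l hj' (Ne.symm hkl)
  refine ⟨t * x, mul_mem (K_le_X K k ht) hx, ?_, ?_⟩
  · rw [cj_mul, e1, cj_eq_self_iff.2 (b.K_le_N k ht)]
  · rw [cj_mul, e2, e3]

theorem exists_pair : ∃ i j : ι, i ≠ j := by
  obtain ⟨i, -⟩ := b.R_cov 1 (one_mem V)
  obtain ⟨j, hj, -⟩ := b.third i i
  exact ⟨j, i, hj⟩

theorem eq_one_of_forall {a : G} (h : ∀ i, a ∈ R i) : a = 1 := by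
  obtain ⟨i, j, hij⟩ := b.exists_pair
  exact b.eq_one hij (h i) (h j)

theorem cen_le_N (i : ι) : centralizer (V : Set G) ≤ normalizer (R i : Set G) := by
  refine le_normalizer_of fun k hk v hv => ?_
  rw [← mem_centralizer_iff.1 hk v (b.R_le i hv), mul_inv_cancel_right]
  exact hv

theorem cen_le_NU (i : ι) : centralizer (V : Set G) ≤ normalizer (UK V K i : Set G) := by
  intro g hg
  rw [← cj_eq_self_iff, UK, cj_inf, cj_eq_self_iff.2 (b.N_K i (b.cen_le_N i hg)), cj_of_mem hg]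

theorem exists_mul {i j : ι} (hij : i ≠ j) {v : G} (hv : v ∈ V) : ∃ a ∈ R i, ∃ c ∈ R j, v = a * c := by
  let T : Subgroup G :=
    { carrier := {v | ∃ a ∈ R i, ∃ c ∈ R j, v = a * c}
      one_mem' := ⟨1, one_mem _, 1, one_mem _, by rw [one_mul]⟩
      mul_mem' := by
        rintro _ _ ⟨a, ha, c, hc, rfl⟩ ⟨a', ha', c', hc', rfl⟩
        refine ⟨a * a', mul_mem ha ha', c * c', mul_mem hc hc', ?_⟩
        have := b.V_comm c (b.R_le j hc) a' (b.R_le i ha')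
        calc a * c * (a' * c') = a * (c * a') * c' := by group
          _ = a * a' * (c * c') := by rw [this]; group
      inv_mem' := by
        rintro _ ⟨a, ha, c, hc, rfl⟩
        refine ⟨a⁻¹, inv_mem ha, c⁻¹, inv_mem hc, ?_⟩
        rw [mul_inv_rev]
        exact b.V_comm _ (inv_mem (b.R_le j hc)) _ (inv_mem (b.R_le i ha)) }
  have hT : R i ⊔ R j ≤ T := sup_le (fun a ha => ⟨a, ha, 1, one_mem _, by rw [mul_one]⟩)
    fun c hc => ⟨1, one_mem _, c, hc, by rw [one_mul]⟩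
  rw [b.R_sup i j hij] at hT
  exact hT hv

theorem L_le_NX : L ≤ normalizer (XK K : Set G) := by
  refine le_normalizer_of fun g hg y hy => ?_
  have h : cj g (XK K) ≤ XK K := by
    rw [XK, cj_iSup]
    refine iSup_le fun i => ?_
    obtain ⟨j, hj⟩ := b.perm g hg i
    rw [b.cj_K g i j hj]
    exact K_le_X K j
  exact h (conj_mem_cj hy)

theorem cen_VX {v : G} (hv : v ∈ V) (h : v ∈ centralizer (XK K : Set G)) : v = 1 := by
  obtain ⟨i, hi⟩ := b.R_cov v hv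
  refine b.eq_one_of_forall fun j => ?_
  obtain ⟨x, hx, e⟩ := b.trans_X_one i j
  rw [← e]
  have := conj_mem_cj (g := x) hi
  rwa [mem_centralizer_iff.1 h x hx, mul_inv_cancel_right] at this

theorem mem_cen_X {i j : ι} (hij : i ≠ j) {x : G} (hi : x ∈ centralizer (K i : Set G))
    (hj : x ∈ centralizer (K j : Set G)) : x ∈ centralizer (XK K : Set G) := by
  rw [b.X_eq hij]
  exact mem_cen_sup hi hj

theorem R_cen_K (i : ι) : R i ≤ centralizer (K i : Set G) := fun a ha => by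
  rw [mem_centralizer_iff]
  exact fun w hw => b.QR i w (b.K_Q i hw) a ha

theorem QQ_aux {i j : ι} (hij : i ≠ j) : XK K ≤ cenMod V (QQ (R i) ⊓ QQ (R j)) := by
  have key : ∀ k, ∀ w ∈ K k, ∀ d ∈ QQ (R k), w * d * w⁻¹ * d⁻¹ ∈ V := by
    intro k w hw d hd
    have e : w * d * w⁻¹ * d⁻¹ = (d * w * d⁻¹ * w⁻¹)⁻¹ := by group
    rw [e]
    exact b.R_le k (inv_mem (b.KQ k d hd w hw))
  rw [b.X_eq hij]
  exact sup_le (fun w hw => ⟨b.K_le_NV i hw, fun d hd => key i w hw d hd.1⟩)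
    fun w hw => ⟨b.K_le_NV j hw, fun d hd => key j w hw d hd.2⟩

theorem C_eq {i j : ι} (hij : i ≠ j) : CC R = QQ (R i) ⊓ QQ (R j) := by
  have key : ∀ k l, k ≠ l → QQ (R i) ⊓ QQ (R j) = QQ (R k) ⊓ QQ (R l) := by
    intro k l hkl
    obtain ⟨x, hx, e1, e2⟩ := b.trans_X hij hkl
    have h1 := cj_eq_self_iff.2 (cenMod_normalizes (le_inf (b.V_Q i) (b.V_Q j)) (b.QQ_aux hij hx))
    rw [cj_inf, b.cj_QQ e1, b.cj_QQ e2] at h1
    exact h1.symm
  apply le_antisymm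
  · exact le_inf (iInf_le _ i) (iInf_le _ j)
  · refine le_iInf fun k => ?_
    obtain ⟨l, hl, -⟩ := b.third k k
    rw [key k l (Ne.symm hl)]
    exact inf_le_left

theorem CX {x c : G} (hx : x ∈ XK K) (hc : c ∈ CC R) : x * c * x⁻¹ * c⁻¹ ∈ V := by
  obtain ⟨i, j, hij⟩ := b.exists_pair
  rw [b.C_eq hij] at hc
  exact (b.QQ_aux hij hx).2 c hc

theorem K_isPGroup (i : ι) : IsPGroup 2 (K i) := (O2_isPGroup _).to_le (b.K_Q i)

theorem not_mem {i j : ι} (hij : i ≠ j) {a : G} (h1 : a ∈ R i) (h2 : a ≠ 1) : a ∉ R j :=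
  fun h => h2 (b.eq_one hij h1 h)

/-- an element of `Q i` fixing a vector outside `R i` centralises `V` -/
theorem reg {i : ι} {g : G} (hg : g ∈ QQ (R i)) {v : G} (hv : v ∈ V) (hvi : v ∉ R i)
    (hc : g * v = v * g) : ∀ a ∈ V, g * a = a * g := by
  obtain ⟨j, hj⟩ := b.R_cov v hv
  have hij : i ≠ j := by rintro rfl; exact hvi hj
  have hv1 : v ≠ 1 := by rintro rfl; exact hvi (one_mem _)
  obtain ⟨k, hk⟩ := b.perm g (b.Q_L i hg) j
  have hvk : v ∈ R k := by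
    rw [← hk, mem_cj]
    have : g⁻¹ * v * g = v := by rw [mul_assoc, ← hc]; group
    rw [this]; exact hj
  have hjk : j = k := by
    by_contra hne
    exact hv1 (b.eq_one hne hj hvk)
  subst hjk
  have h1 : ∀ a ∈ R j, g * a = a * g := by
    intro a ha
    have h2 : g * a * g⁻¹ ∈ R j := by
      have := conj_mem_cj (g := g) ha
      rwa [hk] at this
    have h3 : g * a * g⁻¹ * a⁻¹ ∈ R j := mul_mem h2 (inv_mem ha)
    have h4 := b.eq_one hij (b.QV i g hg a (b.R_le j ha)) h3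
    rw [mul_inv_eq_one, mul_inv_eq_iff_eq_mul] at h4
    exact h4
  intro a ha
  obtain ⟨x, hx, y, hy, rfl⟩ := b.exists_mul hij ha
  calc g * (x * y) = (g * x) * y := by group
    _ = x * (g * y) := by rw [b.QR i g hg x hx]; group
    _ = x * y * g := by rw [h1 y hy]; group

theorem card_R (i j : ι) : Nat.card (R i) = Nat.card (R j) := by
  obtain ⟨x, -, h⟩ := b.trans_X_one i j
  rw [← h, card_cj]

theorem comm_V_mul {i : ι} {g v w : G} (hg : g ∈ QQ (R i)) (hv : v ∈ V) (hw : w ∈ V) :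
    g * (v * w) * g⁻¹ * (v * w)⁻¹ = (g * v * g⁻¹ * v⁻¹) * (g * w * g⁻¹ * w⁻¹) := by
  have h := b.V_comm v hv _ (b.R_le i (b.QV i g hg w hw))
  calc g * (v * w) * g⁻¹ * (v * w)⁻¹
      = (g * v * g⁻¹ * v⁻¹) * (v * (g * w * g⁻¹ * w⁻¹)) * v⁻¹ := by group
    _ = (g * v * g⁻¹ * v⁻¹) * (g * w * g⁻¹ * w⁻¹ * v) * v⁻¹ := by rw [h]
    _ = _ := by group

/-- an element of `Q i` not centralising `V` maps `R j` onto `R i` by `v ↦ [g, v]` -/
theorem full [Finite G] {i : ι} {g : G} (hg : g ∈ QQ (R i)) (hn : ¬ ∀ a ∈ V, g * a = a * g)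
    {j : ι} (hj : j ≠ i) : ∀ r ∈ R i, ∃ v ∈ R j, g * v * g⁻¹ * v⁻¹ = r := by
  let f : R j → R i := fun v => ⟨g * v * g⁻¹ * (v : G)⁻¹, b.QV i g hg v (b.R_le j v.2)⟩
  have hf : Function.Injective f := by
    rintro ⟨v, hv⟩ ⟨w, hw⟩ h
    have h1 : g * v * g⁻¹ * v⁻¹ = g * w * g⁻¹ * w⁻¹ := congrArg Subtype.val h
    have h2 : g * (v * w⁻¹) * g⁻¹ * (v * w⁻¹)⁻¹ = 1 := by
      rw [b.comm_V_mul hg (b.R_le j hv) (b.R_le j (inv_mem hw)), h1,
        ← b.comm_V_mul hg (b.R_le j hw) (b.R_le j (inv_mem hw))]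
      group
    by_contra hne
    have hne' : v * w⁻¹ ≠ 1 := fun h3 => hne (Subtype.ext (mul_inv_eq_one.1 h3))
    rw [mul_inv_eq_one, mul_inv_eq_iff_eq_mul] at h2
    have hm : v * w⁻¹ ∈ R j := mul_mem hv (inv_mem hw)
    exact hn (b.reg hg (b.R_le j hm) (b.not_mem hj hm hne') h2)
  have hs := (hf.bijective_of_nat_card_le (b.card_R i j).le).2
  intro r hr
  obtain ⟨v, hv⟩ := hs ⟨r, hr⟩
  exact ⟨v, v.2, congrArg Subtype.val hv⟩

/-- an element of `K j` moving `R i` -/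
theorem exists_mover {i j : ι} (hij : i ≠ j) : ∃ v ∈ K j, v ∉ centralizer (V : Set G) := by
  obtain ⟨k, hkj, hki⟩ := b.third j i
  obtain ⟨v0, hv0, e0⟩ := b.tr j i k hij hkj
  refine ⟨v0, hv0, fun h => ?_⟩
  have h2 := b.cen_le_N i h
  rw [← cj_eq_self_iff, e0] at h2
  exact hki (b.R_index h2)

end KT

/-- `cenU` from a partner `A ≤ K i` : `Q i ≤ V C(A)`, `K i = A C_{K i}(V)` -/
theorem cenU_of {V A Ki Qi : Subgroup G} (hPA : ∀ x ∈ Qi, ∃ v ∈ V, ∀ a ∈ A, v⁻¹ * x * a = a * (v⁻¹ * x))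
    (hK : ∀ t ∈ Ki, ∃ a ∈ A, a⁻¹ * t ∈ centralizer (V : Set G)) (hA : A ≤ Ki) :
    ∀ x ∈ Qi, (∀ u ∈ Ki, u ∈ centralizer (V : Set G) → x * u = u * x) →
      ∃ v ∈ V, v⁻¹ * x ∈ centralizer (Ki : Set G) := by
  intro x hx hU
  obtain ⟨v, hv, h1⟩ := hPA x hx
  refine ⟨v, hv, mem_centralizer_iff.2 fun t ht => ?_⟩
  obtain ⟨a, ha, hc⟩ := hK t ht
  set c := a⁻¹ * t with hc'
  have e : t = a * c := by rw [hc']; group
  have hcK : c ∈ Ki := mul_mem (inv_mem (hA ha)) ht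
  have h2 := hU c hcK hc
  have h3 := mem_centralizer_iff.1 hc v⁻¹ (inv_mem hv)
  rw [e]
  calc a * c * (v⁻¹ * x) = a * (c * v⁻¹) * x := by group
    _ = a * v⁻¹ * (c * x) := by rw [← h3]; group
    _ = a * (v⁻¹ * x) * c := by rw [← h2]; group
    _ = v⁻¹ * x * (a * c) := by rw [← h1 a ha]; group

end Cfsg.Agent.Omega.IId.Cv.TwoFour

end

section


/-!
# `WrCv`, CASE 2a: two nodes `V ≠ V^w` over one line `R i`, K-free and field-free, all `q` (helper796, #18009)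

`V` with its lines `R i` and root groups `K i` (`KT V L R K`), `T` a 2-group of index 2 in a Sylow 2-subgroup `T₁ = T⟨w⟩` of `G`,
`T ≤ L ≤ N(V)`, `O₂(C(V)) ≤ T`, `T₁ ≤ N(R i)`, `V' = V^w ≠ V`; `x ∈ Z(T₁) ∩ C(X)` with `V ≤ Z(O₂(C_G(x)))`.

* `lemA` : a 2-element `g ∈ N(V)` trivial on `R i` is `u⁻¹ c`, `u ∈ W i`, `c ∈ C(V)`;
* `Hyp.le_CC` : `V' ≤ ⋂ Q j`;
* `Hyp.cen_UU` : `C_{W j}(V)` centralises `V'`;
* `Hyp.split` : `V' ≤ V C(X)`;
* `Hyp.cen_T` : `T ∩ C(V) = T ∩ C(V')`.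
-/

set_option autoImplicit false

namespace Cfsg.Agent.Omega.IId.Cv.TwoFour

open Subgroup Cfsg.Agent.Omega.BTwo
open Cfsg.Agent.MinSimple.VModule (mem_zc zc_le)

variable {G : Type*} [Group G] {ι : Type*}

/-! ### Lemma A -/

/-- a 2-element of `N(V)` which centralises `R i` acts on `V` as an element of `W i` -/
theorem lemA [Finite G] {V L : Subgroup G} {R K : ι → Subgroup G} (b : KT V L R K) {i : ι} {g : G}
    (hg : g ∈ L) (h2 : IsPGroup 2 (zpowers g)) (hR : ∀ r ∈ R i, g * r = r * g) :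
    ∃ u ∈ K i, u * g ∈ centralizer (V : Set G) := by
  have hfact : Fact (Nat.Prime 2) := ⟨Nat.prime_two⟩
  have hgR : g ∈ normalizer (R i : Set G) := by
    apply centralizer_le_normalizer
    rw [mem_centralizer_iff]
    exact fun r hr => (hR r hr).symm
  obtain ⟨j, hj, -⟩ := b.third i i
  obtain ⟨k, hk⟩ := b.perm g hg j
  have hki : k ≠ i := by
    rintro rfl
    have h1 : cj g (R k) = R k := cj_eq_self_iff.2 hgR
    exact hj (b.R_index (cj_injective (hk.trans h1.symm)))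
  obtain ⟨u, hu, e⟩ := b.tr i k j hki hj
  refine ⟨u, hu, ?_⟩
  set g₁ := u * g with hg₁
  have hg₁V : g₁ ∈ L := mul_mem (b.K_le_L i hu) hg
  have hg₁R : ∀ r ∈ R i, g₁ * r * g₁⁻¹ = r := by
    intro r hr
    have h1 := b.conj_R (b.K_Q i hu) hr
    calc g₁ * r * g₁⁻¹ = u * (g * r * g⁻¹) * u⁻¹ := by rw [hg₁]; group
      _ = u * r * u⁻¹ := by rw [hR r hr]; group
      _ = r := h1
  have hg₁j : cj g₁ (R j) = R j := by rw [hg₁, cj_mul, hk, e]
  -- `g₁` is a 2-element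
  have hg₁2 : IsPGroup 2 (zpowers g₁) := by
    have h3 : zpowers g ≤ normalizer (K i : Set G) := by
      rw [zpowers_le]
      exact b.N_K i hgR
    have h4 : IsPGroup 2 ↥(zpowers g ⊔ K i) := h2.to_sup_of_normal_right' (b.K_isPGroup i) h3
    refine h4.to_le ?_
    rw [zpowers_le]
    exact mul_mem ((le_sup_right : K i ≤ zpowers g ⊔ K i) hu)
      ((le_sup_left : zpowers g ≤ zpowers g ⊔ K i) (mem_zpowers g))
  -- a fixed vector in `R j`
  have hRj2 : IsPGroup 2 (R j) := (O2_isPGroup (normalizer (R j : Set G))).to_le ((b.R_le j).trans (b.V_Q j))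
  have hnj : zpowers g₁ ≤ normalizer (R j : Set G) := by
    rw [zpowers_le, ← cj_eq_self_iff]
    exact hg₁j
  have hS2 : IsPGroup 2 ↥(zpowers g₁ ⊔ R j) := hg₁2.to_sup_of_normal_right' hRj2 hnj
  obtain ⟨c, hc, hc1, hcz⟩ := exists_mem_zc (T := R j) hS2 (b.R_ne j) le_sup_right
    (sup_le hnj le_normalizer)
  have hcg : g₁ * c * g₁⁻¹ = c := by
    have h5 := (mem_zc.1 hcz).2.1 g₁ ((le_sup_left : zpowers g₁ ≤ zpowers g₁ ⊔ R j) (mem_zpowers g₁))
    rw [h5, mul_inv_cancel_right]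
  -- `g₁` fixes all lines
  have hall : ∀ k, k ≠ i → cj g₁ (R k) = R k := by
    intro k hk
    obtain ⟨a, ha, d, hd, hcd⟩ := b.exists_mul (Ne.symm hk) (b.R_le j hc)
    have hd1 : d ≠ 1 := by
      rintro rfl
      rw [mul_one] at hcd
      exact hc1 (b.eq_one hj hc (hcd ▸ ha))
    have hdf : g₁ * d * g₁⁻¹ = d := by
      have h6 : d = a⁻¹ * c := by rw [hcd]; group
      calc g₁ * d * g₁⁻¹ = (g₁ * a⁻¹ * g₁⁻¹) * (g₁ * c * g₁⁻¹) := by rw [h6]; group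
        _ = a⁻¹ * c := by rw [hg₁R _ (inv_mem ha), hcg]
        _ = d := h6.symm
    obtain ⟨k', hk'⟩ := b.perm g₁ hg₁V k
    have h7 : d ∈ R k' := by
      rw [← hk', ← hdf]
      exact conj_mem_cj hd
    have h8 : k = k' := by
      by_contra hne
      exact hd1 (b.eq_one hne hd h7)
    rw [h8] at hk'
    rw [h8]
    exact hk'
  -- so it centralises `R j`
  obtain ⟨r₀, hr₀, hr₁⟩ := b.exists_ne i
  have hcj : ∀ v ∈ R j, g₁ * v * g₁⁻¹ = v := by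
    intro v hv
    by_cases hv1 : v = 1
    · rw [hv1]; group
    obtain ⟨l, hl⟩ := b.R_cov (v * r₀) (mul_mem (b.R_le j hv) (b.R_le i hr₀))
    have hli : l ≠ i := by
      intro hli
      rw [hli] at hl
      have h8 : v ∈ R i := by
        have h9 : v = v * r₀ * r₀⁻¹ := by group
        rw [h9]
        exact mul_mem hl (inv_mem hr₀)
      exact hv1 (b.eq_one hj hv h8)
    have hlj : l ≠ j := by
      intro hlj
      rw [hlj] at hl
      have h8 : r₀ ∈ R j := by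
        have h9 : r₀ = v⁻¹ * (v * r₀) := by group
        rw [h9]
        exact mul_mem (inv_mem hv) hl
      exact hr₁ (b.eq_one (Ne.symm hj) hr₀ h8)
    have h10 : g₁ * (v * r₀) * g₁⁻¹ ∈ R l := by
      have := conj_mem_cj (g := g₁) hl
      rwa [hall l hli] at this
    have h11 : g₁ * v * g₁⁻¹ ∈ R j := by
      have := conj_mem_cj (g := g₁) hv
      rwa [hg₁j] at this
    have h12 : g₁ * v * g₁⁻¹ * v⁻¹ ∈ R l := by
      have h13 : g₁ * v * g₁⁻¹ * v⁻¹ = (g₁ * (v * r₀) * g₁⁻¹) * (v * r₀)⁻¹ := by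
        have h14 : g₁ * (v * r₀) * g₁⁻¹ = g₁ * v * g₁⁻¹ * r₀ := by
          calc g₁ * (v * r₀) * g₁⁻¹ = g₁ * v * g₁⁻¹ * (g₁ * r₀ * g₁⁻¹) := by group
            _ = _ := by rw [hg₁R r₀ hr₀]
        rw [h14]
        group
      rw [h13]
      exact mul_mem h10 (inv_mem hl)
    have h15 := b.eq_one hlj h12 (mul_mem h11 (inv_mem hv))
    rwa [mul_inv_eq_one] at h15
  rw [mem_centralizer_iff]
  intro v hv
  obtain ⟨a, ha, d, hd, rfl⟩ := b.exists_mul (Ne.symm hj) hv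
  have h16 : g₁ * (a * d) * g₁⁻¹ = a * d := by
    calc g₁ * (a * d) * g₁⁻¹ = (g₁ * a * g₁⁻¹) * (g₁ * d * g₁⁻¹) := by group
      _ = a * d := by rw [hg₁R a ha, hcj d hd]
  rw [mul_inv_eq_iff_eq_mul] at h16
  exact h16.symm

/-- ... in particular `[V, g] ≤ R i` -/
theorem lemA' [Finite G] {V L : Subgroup G} {R K : ι → Subgroup G} (b : KT V L R K) {i : ι} {g : G}
    (hg : g ∈ L) (h2 : IsPGroup 2 (zpowers g)) (hR : ∀ r ∈ R i, g * r = r * g) :
    ∀ v ∈ V, g * v * g⁻¹ * v⁻¹ ∈ R i := by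
  obtain ⟨u, hu, hc⟩ := lemA b hg h2 hR
  intro v hv
  have h1 : g * v * g⁻¹ = u⁻¹ * v * u := by
    have h3 := mem_centralizer_iff.1 hc v hv
    calc g * v * g⁻¹ = u⁻¹ * (u * g * v) * g⁻¹ := by group
      _ = u⁻¹ * (v * (u * g)) * g⁻¹ := by rw [← h3]
      _ = u⁻¹ * v * u := by group
  rw [h1]
  have h4 := b.QV i _ (inv_mem (b.K_Q i hu)) v hv
  rwa [inv_inv] at h4

/-! ### The setting -/

structure Hyp (V L : Subgroup G) (R K : ι → Subgroup G) (i : ι) (T₁ T : Subgroup G) (w x : G) : Prop where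
  bt : KT V L R K
  cenQ : normalizer (R i : Set G) ⊓ centralizer (QQ (R i) : Set G) ≤ QQ (R i)
  T₁p : IsPGroup 2 T₁
  /-- `T₁` is a Sylow 2-subgroup of `G` -/
  T₁max : ∀ P : Subgroup G, IsPGroup 2 P → T₁ ≤ P → P ≤ T₁
  le : T ≤ T₁
  idx : ∀ a ∈ T₁, a ∉ T → ∀ c ∈ T₁, c ∉ T → a * c ∈ T
  T₁R : T₁ ≤ normalizer (R i : Set G)
  TL : T ≤ L
  OC : O2 (centralizer (V : Set G)) ≤ T
  QT : QQ (R i) ≤ T
  wT₁ : w ∈ T₁
  wV : cj w V ≠ V
  xm : x ∈ T₁
  xT₁ : ∀ t ∈ T₁, t * x = x * t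
  xX : x ∈ centralizer (XK K : Set G)
  VO : V ≤ O2 (centralizer ({x} : Set G))
  Vc : ∀ v ∈ V, ∀ u ∈ O2 (centralizer ({x} : Set G)), v * u = u * v

namespace Hyp

variable {V L : Subgroup G} {R K : ι → Subgroup G} {i : ι} {T₁ T : Subgroup G} {w x : G}
  (h : Hyp V L R K i T₁ T w x)
include h

theorem TV : T ≤ normalizer (V : Set G) := h.TL.trans h.bt.L_V

theorem w_not : w ∉ T := fun hw => h.wV (cj_eq_self_iff.2 (h.TV hw))

/-- `T` is normal in `T₁` -/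
theorem conj_T {a t : G} (ha : a ∈ T₁) (ht : t ∈ T) : a * t * a⁻¹ ∈ T := by
  by_cases haT : a ∈ T
  · exact mul_mem (mul_mem haT ht) (inv_mem haT)
  · refine h.idx _ (mul_mem ha (h.le ht)) (fun h1 => haT ?_) _ (inv_mem ha) (fun h1 => haT ?_)
    · have e : a = a * t * t⁻¹ := by group
      rw [e]
      exact mul_mem h1 (inv_mem ht)
    · have := inv_mem h1
      rwa [inv_inv] at this

theorem conj_T' {a t : G} (ha : a ∈ T₁) (ht : t ∈ T) : a⁻¹ * t * a ∈ T := by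
  have := h.conj_T (inv_mem ha) ht
  rwa [inv_inv] at this

/-- `T` normalises `V' = V^w` -/
theorem TV' : T ≤ normalizer (cj w V : Set G) := by
  intro t ht
  rw [normalizer_cj, mem_cj]
  exact h.TV (h.conj_T' h.wT₁ ht)

theorem cj_R : cj w (R i) = R i := cj_eq_self_iff.2 (h.T₁R h.wT₁)

theorem ww : w * w ∈ T := h.idx w h.wT₁ h.w_not w h.wT₁ h.w_not

theorem cj_V' : cj w (cj w V) = V := by
  rw [← cj_mul]
  exact cj_eq_self_iff.2 (h.TV h.ww)

theorem cj_inv_V : cj w⁻¹ V = cj w V := by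
  have h1 := congrArg (cj w⁻¹) h.cj_V'
  rw [cj_inv_cj] at h1
  exact h1.symm

theorem cj_inv_R : cj w⁻¹ (R i) = R i := by
  have h1 := congrArg (cj w⁻¹) h.cj_R
  rw [cj_inv_cj] at h1
  exact h1.symm

theorem T₁C : T₁ ≤ centralizer ({x} : Set G) := by
  intro t ht
  rw [mem_centralizer_singleton_iff]
  exact h.xT₁ t ht

theorem XC : XK K ≤ centralizer ({x} : Set G) := by
  intro g hg
  rw [mem_centralizer_singleton_iff]
  exact mem_centralizer_iff.1 h.xX g hg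

/-- `V' ≤ O₂(C(x))` -/
theorem V'O : cj w V ≤ O2 (centralizer ({x} : Set G)) := by
  have h1 := cj_mono (g := w) h.VO
  rwa [cj_eq_self_iff.2 (le_normalizer_O2 _ (h.T₁C h.wT₁))] at h1

theorem V'c : ∀ v ∈ cj w V, ∀ u ∈ O2 (centralizer ({x} : Set G)), v * u = u * v := by
  intro v hv u hu
  rw [mem_cj] at hv
  have h1 := conj_inv_mem_of_normalizer (le_normalizer_O2 _ (h.T₁C h.wT₁)) hu
  have h2 := h.Vc _ hv _ h1
  calc v * u = w * ((w⁻¹ * v * w) * (w⁻¹ * u * w)) * w⁻¹ := by group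
    _ = w * ((w⁻¹ * u * w) * (w⁻¹ * v * w)) * w⁻¹ := by rw [h2]
    _ = u * v := by group

theorem VV' : ∀ v ∈ V, ∀ v' ∈ cj w V, v * v' = v' * v := fun v hv v' hv' => h.Vc v hv v' (h.V'O hv')

theorem V'_le_cen : cj w V ≤ centralizer (V : Set G) := fun v' hv' => by
  rw [mem_centralizer_iff]
  exact fun v hv => h.VV' v hv v' hv'

theorem R_le_V' : R i ≤ cj w V := by
  have h1 := cj_mono (g := w) (h.bt.R_le i)
  rwa [h.cj_R] at h1

theorem V'_comm : ∀ a ∈ cj w V, ∀ c ∈ cj w V, a * c = c * a := fun a ha c hc => h.V'c a ha c (h.V'O hc)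

theorem V'_sq {a : G} (ha : a ∈ cj w V) : a * a = 1 := by
  rw [mem_cj] at ha
  have h1 := h.bt.V_sq _ ha
  calc a * a = w * ((w⁻¹ * a * w) * (w⁻¹ * a * w)) * w⁻¹ := by group
    _ = 1 := by rw [h1]; group

theorem T_zp {t : G} (ht : t ∈ T) : IsPGroup 2 (zpowers t) :=
  (h.T₁p.to_le h.le).to_le (by rw [zpowers_le]; exact ht)

/-- `t ∈ T` centralising `R i`: `[V, t] ≤ R i` -/
theorem TR [Finite G] {t : G} (ht : t ∈ T) (hR : ∀ r ∈ R i, t * r = r * t) : ∀ v ∈ V, t * v * t⁻¹ * v⁻¹ ∈ R i :=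
  lemA' h.bt (h.TL ht) (h.T_zp ht) hR

/-- `t ∈ T` centralising `R i`: `[V', t] ≤ R i` -/
theorem TR' [Finite G] {t : G} (ht : t ∈ T) (hR : ∀ r ∈ R i, t * r = r * t) :
    ∀ v ∈ cj w V, t * v * t⁻¹ * v⁻¹ ∈ R i := by
  intro v hv
  have h1 : ∀ r ∈ R i, w⁻¹ * t * w * r = r * (w⁻¹ * t * w) := by
    intro r hr
    have h2 : w * r * w⁻¹ ∈ R i := conj_mem_of_normalizer (h.T₁R h.wT₁) hr
    have h3 := hR _ h2
    calc w⁻¹ * t * w * r = w⁻¹ * (t * (w * r * w⁻¹)) * w := by group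
      _ = w⁻¹ * (w * r * w⁻¹ * t) * w := by rw [h3]
      _ = r * (w⁻¹ * t * w) := by group
  rw [mem_cj] at hv
  have h4 := h.TR (h.conj_T' h.wT₁ ht) h1 _ hv
  have h5 := conj_mem_of_normalizer (h.T₁R h.wT₁) h4
  have e : w * (w⁻¹ * t * w * (w⁻¹ * v * w) * (w⁻¹ * t * w)⁻¹ * (w⁻¹ * v * w)⁻¹) * w⁻¹ = t * v * t⁻¹ * v⁻¹ := by
    group
  rwa [e] at h5

/-! ### `V' ≤ Q j` -/

/-- `R i ∩ C(Q j) = 1` -/
theorem R_cen_Q {j : ι} (hj : j ≠ i) {a : G} (ha : a ∈ R i) (hc : a ∈ centralizer (QQ (R j) : Set G)) : a = 1 := by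
  have b := h.bt
  by_contra ha1
  obtain ⟨v, hv, hvU⟩ := b.exists_mover hj.symm
  have h1 : a ∉ R j := b.not_mem hj.symm ha ha1
  have h2 : v * a = a * v := mem_centralizer_iff.1 hc v (b.K_Q j hv)
  have h3 := b.reg (b.K_Q j hv) (b.R_le i ha) h1 h2
  apply hvU
  rw [mem_centralizer_iff]
  exact fun c hc => (h3 c hc).symm

/-- `x ∈ Z(Q j)` -/
theorem x_Q (j : ι) : x ∈ QQ (R j) ⊓ centralizer (QQ (R j) : Set G) := by
  have b := h.bt
  have h0 : x ∈ centralizer (QQ (R i) : Set G) := by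
    rw [mem_centralizer_iff]
    exact fun q hq => h.xT₁ q (h.le (h.QT hq))
  have h1 : x ∈ QQ (R i) := h.cenQ (mem_inf.2 ⟨h.T₁R h.xm, h0⟩)
  obtain ⟨g, hg, e⟩ := b.trans_X_one i j
  have h2 : g * x * g⁻¹ = x := by
    rw [mem_centralizer_iff.1 h.xX g hg, mul_inv_cancel_right]
  have h3 : g * x * g⁻¹ ∈ cj g (QQ (R i) ⊓ centralizer (QQ (R i) : Set G)) := conj_mem_cj (mem_inf.2 ⟨h1, h0⟩)
  rwa [h2, cj_inf, ← centralizer_cj, b.cj_QQ e] at h3

/-- `Z(Q j)` is normalised by `N(R j)` -/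
theorem norm_ZQ (j : ι) : normalizer (R j : Set G) ≤
    normalizer ((QQ (R j) ⊓ centralizer (QQ (R j) : Set G) : Subgroup G) : Set G) := by
  intro g hg
  have h1 := le_normalizer_O2 _ hg
  rw [← cj_eq_self_iff, cj_inf, ← centralizer_cj, cj_eq_self_iff.2 h1]

/-- `N j = ⟨x^{N(R j)}⟩ ≤ Z(Q j)` -/
theorem NN_le (j : ι) : WW (zpowers x) (R j) ≤ QQ (R j) ⊓ centralizer (QQ (R j) : Set G) := by
  refine iSup_le fun g => ?_
  have h1 : zpowers x ≤ QQ (R j) ⊓ centralizer (QQ (R j) : Set G) := by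
    rw [zpowers_le]
    exact h.x_Q j
  have h2 := cj_mono (g := (g : G)) h1
  rwa [cj_eq_self_iff.2 (h.norm_ZQ j g.2)] at h2

/-- a 2-subgroup of `C(V)` normalised by `C(V)` is in `T` -/
theorem le_T_of {A : Subgroup G} (hA : A ≤ centralizer (V : Set G)) (h2 : IsPGroup 2 A)
    (hn : ∀ g ∈ centralizer (V : Set G), ∀ a ∈ A, g * a * g⁻¹ ∈ A) : A ≤ T := by
  exact (le_O2_of_normal hA h2 hn).trans h.OC

/-- `Z(Q j) ≤ T ∩ C(V)` -/
theorem ZQ_le (j : ι) : QQ (R j) ⊓ centralizer (QQ (R j) : Set G) ≤ T ⊓ centralizer (V : Set G) := by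
  have b := h.bt
  have h1 : QQ (R j) ⊓ centralizer (QQ (R j) : Set G) ≤ centralizer (V : Set G) :=
    inf_le_right.trans (centralizer_le (b.V_Q j))
  refine le_inf (h.le_T_of h1 ((O2_isPGroup _).to_le inf_le_left) ?_) h1
  exact fun g hg a ha => conj_mem_of_normalizer (h.norm_ZQ j (b.cen_le_N j hg)) ha

/-- `Z(O₂(C(x))) ∩ C(N j) ≤ Q j` -/
theorem cen_NN_le (j : ι) {u : G} (hu : u ∈ O2 (centralizer ({x} : Set G)))
    (hcu : u ∈ centralizer (O2 (centralizer ({x} : Set G)) : Set G))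
    (hN : u ∈ centralizer (WW (zpowers x) (R j) : Set G)) : u ∈ QQ (R j) := by
  have b := h.bt
  set U : Subgroup G := O2 (centralizer ({x} : Set G)) ⊓ centralizer (O2 (centralizer ({x} : Set G)) : Set G)
    with hU
  set B : Subgroup G := normalizer (R j : Set G) ⊓ centralizer (WW (zpowers x) (R j) : Set G) with hB
  have hUC : U ≤ centralizer (V : Set G) := inf_le_right.trans (centralizer_le h.VO)
  have hUN : U ≤ normalizer (R j : Set G) := hUC.trans (b.cen_le_N j)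
  have hxN : x ∈ WW (zpowers x) (R j) := V_le_WW (zpowers x) (R j) (mem_zpowers x)
  have hBC : B ≤ centralizer ({x} : Set G) := by
    intro g hg
    rw [mem_centralizer_singleton_iff]
    exact (mem_centralizer_iff.1 (mem_inf.1 hg).2 x hxN).symm
  have hCU : centralizer ({x} : Set G) ≤ normalizer (U : Set G) := by
    intro g hg
    have h1 := le_normalizer_O2 _ hg
    rw [← cj_eq_self_iff, hU, cj_inf, ← centralizer_cj, cj_eq_self_iff.2 h1]
  have hBn : ∀ g ∈ normalizer (R j : Set G), ∀ c ∈ B, g * c * g⁻¹ ∈ B := by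
    intro g hg c hc
    obtain ⟨hc1, hc2⟩ := mem_inf.1 hc
    refine mem_inf.2 ⟨mul_mem (mul_mem hg hc1) (inv_mem hg), ?_⟩
    exact conj_mem_of_normalizer (normalizer_le_normalizer_centralizer _ (normalizer_le_WW _ _ hg)) hc2
  have h3 : U ⊓ B ≤ O2 (normalizer (R j : Set G)) := by
    refine le_O2_of_chain inf_le_right le_rfl inf_le_left ((O2_isPGroup _).to_le (inf_le_left.trans inf_le_left))
      ?_ (fun c hc g hg => mul_mem (mul_mem hc hg) (inv_mem hc)) hBn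
    intro c hc a ha
    exact mem_inf.2 ⟨conj_mem_of_normalizer (hCU (hBC hc)) ha.1, mul_mem (mul_mem hc ha.2) (inv_mem hc)⟩
  have huU : u ∈ U := mem_inf.2 ⟨hu, hcu⟩
  exact h3 (mem_inf.2 ⟨huU, mem_inf.2 ⟨hUN huU, hN⟩⟩)

/-- **(2)** `V' ≤ ⋂ Q j` -/
theorem le_CC [Finite G] : cj w V ≤ CC R := by
  have b := h.bt
  obtain ⟨j, hj, -⟩ := b.third i i
  rw [b.C_eq hj]
  refine le_inf ?_ ?_
  · intro v hv
    have hu := h.V'O hv
    have hcu : v ∈ centralizer (O2 (centralizer ({x} : Set G)) : Set G) := by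
      rw [mem_centralizer_iff]
      exact fun u hu => (h.V'c v hv u hu).symm
    refine h.cen_NN_le j hu hcu ?_
    rw [mem_centralizer_iff]
    intro n hn
    have hnZ := h.NN_le j hn
    obtain ⟨hnT, hnV⟩ := mem_inf.1 (h.ZQ_le j hnZ)
    have h1 := h.TR' hnT (fun r hr => (mem_centralizer_iff.1 hnV r (b.R_le i hr)).symm) v hv
    have hvN : v ∈ normalizer (R j : Set G) := b.cen_le_N j (h.V'_le_cen hv)
    have h2 : n * v * n⁻¹ * v⁻¹ ∈ WW (zpowers x) (R j) := by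
      have e : n * v * n⁻¹ * v⁻¹ = n * (v * n⁻¹ * v⁻¹) := by group
      rw [e]
      exact mul_mem hn (conj_mem_of_normalizer (normalizer_le_WW _ _ hvN) (inv_mem hn))
    have h3 := h.R_cen_Q hj h1 (mem_inf.1 (h.NN_le j h2)).2
    rwa [mul_inv_eq_one, mul_inv_eq_iff_eq_mul] at h3
  · have h1 := cj_mono (g := w) (b.V_Q i)
    rwa [cj_eq_self_iff.2 (le_normalizer_O2 _ (h.T₁R h.wT₁))] at h1

/-- `[X, V'] ≤ V` -/
theorem XV' [Finite G] {g v : G} (hg : g ∈ XK K) (hv : v ∈ cj w V) : g * v * g⁻¹ * v⁻¹ ∈ V :=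
  h.bt.CX hg (h.le_CC hv)

/-- **(3)** `C_{W j}(V)` centralises `V'` -/
theorem cen_UU [Finite G] (j : ι) {u v : G} (hu : u ∈ UK V K j) (hv : v ∈ cj w V) : u * v = v * u := by
  have b := h.bt
  have key : ∀ j, j ≠ i → ∀ u ∈ UK V K j, ∀ v ∈ cj w V, u * v = v * u := by
    intro j hj u hu v hv
    have hUT : UK V K j ≤ T := by
      refine h.le_T_of (UK_le_cen V K j) ((b.K_isPGroup j).to_le inf_le_left) fun g hg a ha => ?_
      exact conj_mem_of_normalizer (b.cen_le_NU j hg) ha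
    have h1 := h.TR' (hUT hu) (fun r hr => (mem_centralizer_iff.1 (UK_le_cen V K j hu) r (b.R_le i hr)).symm) v hv
    have h2 : u * v * u⁻¹ * v⁻¹ ∈ R j := by
      have h3 := b.KQ j _ (mem_iInf.1 (h.le_CC hv) j) _ (mem_inf.1 hu).1
      have e : u * v * u⁻¹ * v⁻¹ = (v * u * v⁻¹ * u⁻¹)⁻¹ := by group
      rw [e]
      exact inv_mem h3
    have h4 := b.eq_one hj h2 h1
    rwa [mul_inv_eq_one, mul_inv_eq_iff_eq_mul] at h4
  by_cases hj : j = i
  · subst hj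
    obtain ⟨k, hk, -⟩ := b.third j j
    obtain ⟨g, hg, e⟩ := b.trans_X_one j k
    -- `cj g (R j) = R k`
    have h1 : g * u * g⁻¹ ∈ UK V K k := by
      have h2 : cj g (UK V K j) = UK V K k := by
        rw [UK, UK, cj_inf, b.cj_K g j k e, ← centralizer_cj, cj_eq_self_iff.2 (b.X_le_NV hg)]
      rw [← h2]
      exact conj_mem_cj hu
    set c := g * v * g⁻¹ * v⁻¹ with hc
    have h3 : c ∈ V := h.XV' hg hv
    have h4 := key k hk _ h1 v hv
    have h5 : g * u * g⁻¹ * c = c * (g * u * g⁻¹) :=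
      (mem_centralizer_iff.1 (UK_le_cen V K k h1) c h3).symm
    have h6 : g * v * g⁻¹ = c * v := by rw [hc]; group
    have h7 : (g * u * g⁻¹) * (g * v * g⁻¹) = (g * v * g⁻¹) * (g * u * g⁻¹) := by
      rw [h6]
      calc g * u * g⁻¹ * (c * v) = (g * u * g⁻¹ * c) * v := by group
        _ = c * (g * u * g⁻¹ * v) := by rw [h5]; group
        _ = c * v * (g * u * g⁻¹) := by rw [h4]; group
    calc u * v = g⁻¹ * ((g * u * g⁻¹) * (g * v * g⁻¹)) * g := by group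
      _ = g⁻¹ * ((g * v * g⁻¹) * (g * u * g⁻¹)) * g := by rw [h7]
      _ = v * u := by group
  · exact key j hj u hu v hv

/-- **(4)** `V' ≤ V C(X)` -/
theorem split [Finite G] {v : G} (hv : v ∈ cj w V) : ∃ a ∈ V, a⁻¹ * v ∈ centralizer (XK K : Set G) := by
  have b := h.bt
  obtain ⟨j, k, hjk⟩ := b.exists_pair
  have h1 : ∀ l, ∃ a ∈ V, a⁻¹ * v ∈ centralizer (K l : Set G) := fun l =>
    b.cenU l _ (mem_iInf.1 (h.le_CC hv) l) fun u hu hu' => (h.cen_UU l (mem_inf.2 ⟨hu, hu'⟩) hv).symm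
  obtain ⟨a, ha, h2⟩ := h1 j
  obtain ⟨c, hc, h3⟩ := h1 k
  obtain ⟨p, hp, q, hq, e⟩ := b.exists_mul hjk (mul_mem (inv_mem ha) hc)
  refine ⟨a * p, mul_mem ha (b.R_le j hp), b.mem_cen_X hjk ?_ ?_⟩
  · have e1 : (a * p)⁻¹ * v = p⁻¹ * (a⁻¹ * v) := by group
    rw [e1]
    exact mul_mem (inv_mem (b.R_cen_K j hp)) h2
  · have e1 : (a * p)⁻¹ * v = q * (c⁻¹ * v) := by
      have e2 : c = a * (p * q) := by rw [← e]; group
      rw [e2]
      group
    rw [e1]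
    exact mul_mem (b.R_cen_K k hq) h3

/-- **(5)** `T ∩ C(V) ≤ C(V')` -/
theorem cen_T [Finite G] {t : G} (ht : t ∈ T) (hc : t ∈ centralizer (V : Set G)) :
    t ∈ centralizer (cj w V : Set G) := by
  have b := h.bt
  rw [mem_centralizer_iff]
  intro v hv
  obtain ⟨a, ha, hf⟩ := h.split hv
  have h1 := h.TR' ht (fun r hr => (mem_centralizer_iff.1 hc r (b.R_le i hr)).symm) v hv
  have hta := mem_centralizer_iff.1 hc a ha
  have hX := normalizer_le_normalizer_centralizer _ (b.L_le_NX (h.TL ht))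
  have h2 : t * (a⁻¹ * v) * t⁻¹ * (a⁻¹ * v)⁻¹ ∈ centralizer (XK K : Set G) :=
    mul_mem (conj_mem_of_normalizer hX hf) (inv_mem hf)
  have h3 : t * (a⁻¹ * v) * t⁻¹ * (a⁻¹ * v)⁻¹ = t * v * t⁻¹ * v⁻¹ := by
    have h4 := b.V_comm a ha _ (b.R_le i h1)
    calc t * (a⁻¹ * v) * t⁻¹ * (a⁻¹ * v)⁻¹ = (t * a * t⁻¹)⁻¹ * (t * v * t⁻¹ * v⁻¹) * a := by group
      _ = a⁻¹ * (t * v * t⁻¹ * v⁻¹) * a := by rw [← hta]; group
      _ = a⁻¹ * ((t * v * t⁻¹ * v⁻¹) * a) := by group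
      _ = a⁻¹ * (a * (t * v * t⁻¹ * v⁻¹)) := by rw [h4]
      _ = t * v * t⁻¹ * v⁻¹ := by group
  rw [h3] at h2
  have h5 := b.cen_VX (b.R_le i h1) h2
  rw [mul_inv_eq_one, mul_inv_eq_iff_eq_mul] at h5
  exact h5.symm

/-- `T ∩ C(V') ≤ C(V)` -/
theorem cen_T' [Finite G] {t : G} (ht : t ∈ T) (hc : t ∈ centralizer (cj w V : Set G)) :
    t ∈ centralizer (V : Set G) := by
  have h1 : w * t * w⁻¹ ∈ centralizer (V : Set G) := by
    have h2 : w * t * w⁻¹ ∈ centralizer (cj w (cj w V) : Set G) := by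
      rw [centralizer_cj]
      exact conj_mem_cj hc
    rwa [h.cj_V'] at h2
  have h3 := h.cen_T (h.conj_T h.wT₁ ht) h1
  rw [centralizer_cj, mem_cj] at h3
  have e : w⁻¹ * (w * t * w⁻¹) * w = t := by group
  rwa [e] at h3

end Hyp

end Cfsg.Agent.Omega.IId.Cv.TwoFour

end

section


/-!
# `WrCv`, CASE 2a, `q ≥ 4` : the end (helper796, #18009)

`PP = ⟨V, V^w⟩ > CP = PP ∩ C(K i) > R i`; `b ∈ X` and `b' ∈ X^w` with the same `(e, e')`; `δ = b⁻¹ b'` is in the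
stability group of `PP > CP > R i > 1`, so `δ ∈ T₁ C(PP)`; then `[PP, δ] ≤ R i` and `V = V^w`.

* `Hyp.false_four`.
-/

set_option autoImplicit false

namespace Cfsg.Agent.Omega.IId.Cv.TwoFour

open Subgroup Cfsg.Agent.Omega.BTwo

variable {G : Type*} [Group G] {ι : Type*}

/-! ### A Sylow argument -/

theorem relIndex_sup_norm [Finite G] {S K : Subgroup G} (hK : S ≤ normalizer (K : Set G)) :
    S.relIndex K = S.relIndex (K ⊔ S) := by
  have hKH : K ≤ K ⊔ S := le_sup_left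
  have hn : (K.subgroupOf (K ⊔ S)).Normal := (normal_subgroupOf_iff_le_normalizer hKH).2 (sup_le le_normalizer hK)
  have h1 : K.relIndex (K ⊔ S) = K.relIndex S := by
    have h := Subgroup.relIndex_sup_left (K := K.subgroupOf (K ⊔ S)) (H := S.subgroupOf (K ⊔ S))
    rw [← Subgroup.subgroupOf_sup hKH le_sup_right, Subgroup.relIndex_subgroupOf le_rfl,
      Subgroup.relIndex_subgroupOf le_sup_right] at h
    exact h
  have h2 := Subgroup.relIndex_mul_relIndex (K ⊓ S) K (K ⊔ S) inf_le_left le_sup_left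
  have h3 := Subgroup.relIndex_mul_relIndex (K ⊓ S) S (K ⊔ S) inf_le_right le_sup_right
  have h4 : (K ⊓ S).relIndex S = K.relIndex S := Subgroup.inf_relIndex_right K S
  have h4' : (K ⊓ S).relIndex K = S.relIndex K := Subgroup.inf_relIndex_left K S
  rw [h1, h4'] at h2
  rw [h4, ← h2, mul_comm] at h3
  exact (Nat.eq_of_mul_eq_mul_right (Nat.pos_of_ne_zero (Subgroup.index_ne_zero_of_finite
      (H := K.subgroupOf S))) h3).symm

theorem mem_sup_norm {A B : Subgroup G} (h : A ≤ normalizer (B : Set G)) {x : G} (hx : x ∈ A ⊔ B) :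
    ∃ a ∈ A, a⁻¹ * x ∈ B := by
  let T : Subgroup G :=
    { carrier := {x | ∃ a ∈ A, a⁻¹ * x ∈ B}
      one_mem' := ⟨1, one_mem _, by rw [inv_one, one_mul]; exact one_mem _⟩
      mul_mem' := by
        rintro x y ⟨a, ha, h1⟩ ⟨c, hc, h2⟩
        refine ⟨a * c, mul_mem ha hc, ?_⟩
        have e : (a * c)⁻¹ * (x * y) = (c⁻¹ * (a⁻¹ * x) * c) * (c⁻¹ * y) := by group
        rw [e]
        exact mul_mem (conj_inv_mem_of_normalizer (h hc) h1) h2
      inv_mem' := by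
        rintro x ⟨a, ha, h1⟩
        refine ⟨a⁻¹, inv_mem ha, ?_⟩
        have e : a⁻¹⁻¹ * x⁻¹ = a * (a⁻¹ * x)⁻¹ * a⁻¹ := by group
        rw [e]
        exact conj_mem_of_normalizer (h ha) (inv_mem h1) }
  have h1 : A ⊔ B ≤ T := sup_le
    (fun a ha => ⟨a, ha, by rw [inv_mul_cancel]; exact one_mem _⟩)
    (fun c hc => ⟨1, one_mem _, by rw [inv_one, one_mul]; exact hc⟩)
  exact h1 hx

/-- `T₁` Sylow, `K` normalised by `T₁`, the elements of odd order of `K` in `K₀ ⊴ K`: `K = (T₁ ∩ K) K₀` -/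
theorem exists_sylow_mul [Finite G] {T₁ K K₀ : Subgroup G} (hT : IsPGroup 2 T₁)
    (hmax : ∀ P : Subgroup G, IsPGroup 2 P → T₁ ≤ P → P ≤ T₁) (hTK : T₁ ≤ normalizer (K : Set G))
    (hK₀ : K₀ ≤ K) (hn : K ≤ normalizer (K₀ : Set G)) (hodd : ∀ c ∈ K, Odd (orderOf c) → c ∈ K₀) {k : G}
    (hk : k ∈ K) : ∃ t ∈ T₁, t ∈ K ∧ t⁻¹ * k ∈ K₀ := by
  have hfact : Fact (Nat.Prime 2) := ⟨Nat.prime_two⟩
  let S : Sylow 2 G := ⟨T₁, hT, fun {Q} hQ hle => le_antisymm (hmax Q hQ hle) hle⟩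
  have hS : ¬ 2 ∣ T₁.index := S.not_dvd_index
  have h1 : T₁.relIndex K ∣ T₁.index := by
    rw [relIndex_sup_norm hTK]
    exact relIndex_dvd_index_of_le le_sup_right
  have h2 : ¬ 2 ∣ T₁.relIndex K := fun h => hS (h.trans h1)
  have hnorm : (K₀.subgroupOf K).Normal := (normal_subgroupOf_iff_le_normalizer hK₀).2 hn
  have hq : IsPGroup 2 (K ⧸ K₀.subgroupOf K) := by
    intro y
    obtain ⟨⟨c, hc⟩, rfl⟩ := QuotientGroup.mk_surjective y
    obtain ⟨n, m, hm, hnm⟩ := Nat.exists_eq_two_pow_mul_odd (orderOf_pos c).ne'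
    refine ⟨n, ?_⟩
    rw [← QuotientGroup.mk_pow, QuotientGroup.eq_one_iff, mem_subgroupOf]
    change c ^ 2 ^ n ∈ K₀
    refine hodd _ (pow_mem hc _) ?_
    have h3 : orderOf (c ^ 2 ^ n) = m := by
      rw [orderOf_pow' _ (by positivity), hnm, Nat.gcd_mul_right_left, Nat.mul_div_cancel_left _ (by positivity)]
    rw [h3]
    exact hm
  obtain ⟨n, hn'⟩ := IsPGroup.iff_card.mp hq
  have h3 : K₀.relIndex K = 2 ^ n := hn'
  set M : Subgroup G := (T₁ ⊓ K) ⊔ K₀ with hM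
  have h4 : M.relIndex K ∣ 2 ^ n := by
    rw [← h3]
    exact relIndex_dvd_of_le_left K le_sup_right
  have h5 : M.relIndex K ∣ T₁.relIndex K := by
    rw [← inf_relIndex_right T₁ K]
    exact relIndex_dvd_of_le_left K le_sup_left
  have h6 : (2 ^ n).Coprime (T₁.relIndex K) :=
    Nat.Coprime.pow_left n ((Nat.Prime.coprime_iff_not_dvd Nat.prime_two).mpr h2)
  have h7 : K ≤ M := by
    rw [← relIndex_eq_one]
    exact Nat.eq_one_of_dvd_coprimes h6 h4 h5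
  obtain ⟨t, ht, h8⟩ := mem_sup_norm (inf_le_right.trans hn : T₁ ⊓ K ≤ normalizer (K₀ : Set G)) (h7 hk)
  exact ⟨t, ht.1, ht.2, h8⟩

/-! ### Movers -/

/-- `b` moves `e` to `e'` -/
structure Mv (P C A U : Subgroup G) (e e' b : G) : Prop where
  bN : b ∈ normalizer (P : Set G)
  bR : b ∈ normalizer (A : Set G)
  c1 : ∀ y ∈ P, e' * (b * y * b⁻¹) * e'⁻¹ * (b * y * b⁻¹)⁻¹ = e * y * e⁻¹ * y⁻¹
  c2 : ∀ y ∈ P, b * (e * y * e⁻¹ * y⁻¹) * b⁻¹ = e' * y * e'⁻¹ * y⁻¹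
  bC : ∀ y ∈ C, b * y * b⁻¹ * y⁻¹ ∈ A
  bU : ∀ y ∈ P, b * y * b⁻¹ * y⁻¹ ∈ U

theorem Mv.conj {P C A U : Subgroup G} {e e' b w : G} (m : Mv P C A U (w⁻¹ * e * w) (w⁻¹ * e' * w) b)
    (hP : w ∈ normalizer (P : Set G)) (hC : w ∈ normalizer (C : Set G)) (hA : w ∈ normalizer (A : Set G)) :
    Mv P C A (cj w U) e e' (w * b * w⁻¹) where
  bN := mul_mem (mul_mem hP m.bN) (inv_mem hP)
  bR := mul_mem (mul_mem hA m.bR) (inv_mem hA)
  c1 := by
    intro y hy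
    have h1 := m.c1 _ (conj_inv_mem_of_normalizer hP hy)
    have h2 := congrArg (fun z => w * z * w⁻¹) h1
    calc e' * (w * b * w⁻¹ * y * (w * b * w⁻¹)⁻¹) * e'⁻¹ * (w * b * w⁻¹ * y * (w * b * w⁻¹)⁻¹)⁻¹
        = w * (w⁻¹ * e' * w * (b * (w⁻¹ * y * w) * b⁻¹) * (w⁻¹ * e' * w)⁻¹ * (b * (w⁻¹ * y * w) * b⁻¹)⁻¹) * w⁻¹ := by
          group
      _ = w * (w⁻¹ * e * w * (w⁻¹ * y * w) * (w⁻¹ * e * w)⁻¹ * (w⁻¹ * y * w)⁻¹) * w⁻¹ := h2
      _ = e * y * e⁻¹ * y⁻¹ := by group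
  c2 := by
    intro y hy
    have h1 := m.c2 _ (conj_inv_mem_of_normalizer hP hy)
    have h2 := congrArg (fun z => w * z * w⁻¹) h1
    calc w * b * w⁻¹ * (e * y * e⁻¹ * y⁻¹) * (w * b * w⁻¹)⁻¹
        = w * (b * (w⁻¹ * e * w * (w⁻¹ * y * w) * (w⁻¹ * e * w)⁻¹ * (w⁻¹ * y * w)⁻¹) * b⁻¹) * w⁻¹ := by
          group
      _ = w * (w⁻¹ * e' * w * (w⁻¹ * y * w) * (w⁻¹ * e' * w)⁻¹ * (w⁻¹ * y * w)⁻¹) * w⁻¹ := h2
      _ = e' * y * e'⁻¹ * y⁻¹ := by group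
  bC := by
    intro y hy
    have h1 := conj_mem_of_normalizer hA (m.bC _ (conj_inv_mem_of_normalizer hC hy))
    have e : w * (b * (w⁻¹ * y * w) * b⁻¹ * (w⁻¹ * y * w)⁻¹) * w⁻¹ = w * b * w⁻¹ * y * (w * b * w⁻¹)⁻¹ * y⁻¹ := by
      group
    rwa [e] at h1
  bU := by
    intro y hy
    have h1 : w * (b * (w⁻¹ * y * w) * b⁻¹ * (w⁻¹ * y * w)⁻¹) * w⁻¹ ∈ cj w U :=
      conj_mem_cj (m.bU _ (conj_inv_mem_of_normalizer hP hy))
    have e : w * (b * (w⁻¹ * y * w) * b⁻¹ * (w⁻¹ * y * w)⁻¹) * w⁻¹ = w * b * w⁻¹ * y * (w * b * w⁻¹)⁻¹ * y⁻¹ := by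
      group
    rwa [e] at h1

/-- `⟨V, V^w⟩` -/
def PP (V : Subgroup G) (w : G) : Subgroup G := V ⊔ cj w V

/-- `⟨V, V^w⟩ ∩ C(K i)` -/
def CP (V B : Subgroup G) (w : G) : Subgroup G := PP V w ⊓ centralizer (B : Set G)

/-- the stability group -/
def AA (V A B : Subgroup G) (w : G) : Subgroup G :=
  cenMod (CP V B w) (PP V w) ⊓ cenMod A (CP V B w) ⊓ centralizer (A : Set G)

theorem V_le_P (V : Subgroup G) (w : G) : V ≤ PP V w := le_sup_left
theorem V'_le_P (V : Subgroup G) (w : G) : cj w V ≤ PP V w := le_sup_right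
theorem CP_le (V B : Subgroup G) (w : G) : CP V B w ≤ PP V w := inf_le_left

namespace Hyp

variable {V L : Subgroup G} {R K : ι → Subgroup G} {i : ι} {T₁ T : Subgroup G} {w x : G}
  (h : Hyp V L R K i T₁ T w x)
include h

theorem mem_P {y : G} : y ∈ PP V w ↔ ∃ v ∈ V, ∃ v' ∈ cj w V, v * v' = y := by
  constructor
  · intro hy
    have h1 : V ≤ normalizer (cj w V : Set G) := fun v hv =>
      centralizer_le_normalizer _ (mem_centralizer_iff.2 fun v' hv' => (h.VV' v hv v' hv').symm)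
    obtain ⟨a, ha, hc⟩ := mem_sup_norm h1 hy
    exact ⟨a, ha, _, hc, by group⟩
  · rintro ⟨v, hv, v', hv', rfl⟩
    exact mul_mem (V_le_P V w hv) (V'_le_P V w hv')

theorem P_le_O : PP V w ≤ O2 (centralizer ({x} : Set G)) := sup_le h.VO h.V'O

theorem P_c : ∀ a ∈ PP V w, ∀ u ∈ O2 (centralizer ({x} : Set G)), a * u = u * a := by
  intro a ha u hu
  obtain ⟨v, hv, v', hv', rfl⟩ := h.mem_P.1 ha
  calc v * v' * u = v * (v' * u) := by group
    _ = (v * u) * v' := by rw [h.V'c v' hv' u hu]; group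
    _ = u * (v * v') := by rw [h.Vc v hv u hu]; group

theorem P_comm : ∀ a ∈ PP V w, ∀ c ∈ PP V w, a * c = c * a := fun a ha c hc => h.P_c a ha c (h.P_le_O hc)

theorem P_two : IsPGroup 2 (PP V w) := (O2_isPGroup _).to_le h.P_le_O

theorem R_le_P : R i ≤ PP V w := (h.bt.R_le i).trans (V_le_P V w)

theorem R_le_C : R i ≤ CP V (K i) w := le_inf h.R_le_P (h.bt.R_cen_K i)

theorem wP : w ∈ normalizer (PP V w : Set G) := by
  rw [← cj_eq_self_iff, PP, cj_sup, h.cj_V', sup_comm]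

theorem T_P : T ≤ normalizer (PP V w : Set G) := by
  intro t ht
  rw [← cj_eq_self_iff, PP, cj_sup, cj_eq_self_iff.2 (h.TV ht), cj_eq_self_iff.2 (h.TV' ht)]

theorem T₁_P : T₁ ≤ normalizer (PP V w : Set G) := by
  intro t ht
  by_cases hT : t ∈ T
  · exact h.T_P hT
  · have h1 : w⁻¹ * t ∈ T := h.idx _ (inv_mem h.wT₁) (fun h1 => h.w_not (by
      have := inv_mem h1
      rwa [inv_inv] at this)) _ ht hT
    have e : t = w * (w⁻¹ * t) := by group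
    rw [e]
    exact mul_mem h.wP (h.T_P h1)

theorem mem_T {t : G} (ht : t ∈ T₁) (hV : t ∈ normalizer (V : Set G)) : t ∈ T := by
  by_contra hT
  have h1 : t⁻¹ * w ∈ T := h.idx _ (inv_mem ht) (fun h1 => hT (by
    have := inv_mem h1
    rwa [inv_inv] at this)) _ h.wT₁ h.w_not
  apply h.wV
  rw [cj_eq_self_iff]
  have e : w = t * (t⁻¹ * w) := by group
  rw [e]
  exact mul_mem hV (h.TV h1)

theorem bP [Finite G] {g : G} (hg : g ∈ XK K) : g ∈ normalizer (PP V w : Set G) := by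
  refine mem_normalizer_of_conj fun y hy => ?_
  obtain ⟨v, hv, v', hv', rfl⟩ := h.mem_P.1 hy
  have e : g * (v * v') * g⁻¹ = (g * v * g⁻¹) * ((g * v' * g⁻¹ * v'⁻¹) * v') := by group
  rw [e]
  exact mul_mem (V_le_P V w (conj_mem_of_normalizer (h.bt.X_le_NV hg) hv))
    (mul_mem (V_le_P V w (h.XV' hg hv')) (V'_le_P V w hv'))

theorem dec [Finite G] {y : G} (hy : y ∈ PP V w) :
    ∃ v ∈ V, ∃ f ∈ PP V w, f ∈ centralizer (XK K : Set G) ∧ y = v * f := by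
  obtain ⟨v, hv, v', hv', rfl⟩ := h.mem_P.1 hy
  obtain ⟨a, ha, hf⟩ := h.split hv'
  exact ⟨v * a, mul_mem hv ha, a⁻¹ * v', mul_mem (inv_mem (V_le_P V w ha)) (V'_le_P V w hv'), hf, by group⟩

theorem R_of_cen {v : G} (hv : v ∈ V) (hc : v ∈ centralizer (K i : Set G)) : v ∈ R i := by
  have b := h.bt
  by_contra hR
  obtain ⟨j, hj, -⟩ := b.third i i
  obtain ⟨v₀, hv₀, hU⟩ := b.exists_mover hj
  apply hU
  rw [mem_centralizer_iff]
  intro a ha
  exact (b.reg (b.K_Q i hv₀) hv hR (mem_centralizer_iff.1 hc v₀ hv₀) a ha).symm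

theorem dec_C [Finite G] {y : G} (hy : y ∈ CP V (K i) w) :
    ∃ r ∈ R i, ∃ f ∈ PP V w, f ∈ centralizer (XK K : Set G) ∧ y = r * f := by
  obtain ⟨v, hv, f, hf, hfX, rfl⟩ := h.dec (CP_le _ _ _ hy)
  refine ⟨v, h.R_of_cen hv ?_, f, hf, hfX, rfl⟩
  have e : v = v * f * f⁻¹ := by group
  rw [e]
  exact mul_mem (mem_inf.1 hy).2 (inv_mem (cen_XK_le K i hfX))

theorem norm_C {g : G} (hg : g ∈ normalizer (PP V w : Set G)) (hgR : g ∈ normalizer (R i : Set G)) :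
    g ∈ normalizer (CP V (K i) w : Set G) := by
  rw [← cj_eq_self_iff, CP, cj_inf, cj_eq_self_iff.2 hg, ← centralizer_cj,
    cj_eq_self_iff.2 (h.bt.N_K i hgR)]

/-- an element of `PP` commuting with `e ∈ W i`, `e ∉ C(V)`, is in `CP` -/
theorem mem_C [Finite G] {e y : G} (he : e ∈ K i) (hn : e ∉ centralizer (V : Set G)) (hy : y ∈ PP V w)
    (hc : e * y = y * e) : y ∈ CP V (K i) w := by
  have b := h.bt
  obtain ⟨v, hv, f, hf, hfX, rfl⟩ := h.dec hy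
  have hfW : f ∈ centralizer (K i : Set G) := cen_XK_le K i hfX
  refine mem_inf.2 ⟨hy, mul_mem (b.R_cen_K i ?_) hfW⟩
  by_contra hR
  apply hn
  have h1 : e * v = v * e := by
    have h2 := mem_centralizer_iff.1 hfW e he
    calc e * v = e * (v * f) * f⁻¹ := by group
      _ = v * (f * e) * f⁻¹ := by rw [hc]; group
      _ = v * (e * f) * f⁻¹ := by rw [h2]
      _ = v * e := by group
  rw [mem_centralizer_iff]
  exact fun a ha => (b.reg (b.K_Q i he) hv hR h1 a ha).symm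

/-! ### The stability group -/

theorem norm_A {g y : G} (hg : g ∈ normalizer (PP V w : Set G)) (hgR : g ∈ normalizer (R i : Set G))
    (hy : y ∈ AA V (R i) (K i) w) : g * y * g⁻¹ ∈ AA V (R i) (K i) w := by
  have h1 := h.norm_C hg hgR
  exact mem_inf.2 ⟨mem_inf.2 ⟨conj_cenMod h1 hg hy.1.1, conj_cenMod hgR h1 hy.1.2⟩,
    conj_mem_of_normalizer (normalizer_le_normalizer_centralizer _ hgR) hy.2⟩

theorem A_P : AA V (R i) (K i) w ≤ normalizer (PP V w : Set G) := by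
  have _ := h
  exact (inf_le_left.trans inf_le_left).trans (cenMod_normalizes (CP_le _ _ _))

theorem cen_le_A : centralizer (PP V w : Set G) ≤ AA V (R i) (K i) w := by
  intro c hc
  have h1 : centralizer (PP V w : Set G) ≤ centralizer (CP V (K i) w : Set G) := centralizer_le (CP_le _ _ _)
  have h2 : centralizer (PP V w : Set G) ≤ centralizer (R i : Set G) := centralizer_le h.R_le_P
  have key : ∀ y ∈ PP V w, c * y * c⁻¹ * y⁻¹ = 1 := by
    intro y hy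
    rw [← mem_centralizer_iff.1 hc y hy]
    group
  refine mem_inf.2 ⟨mem_inf.2 ⟨⟨centralizer_le_normalizer _ (h1 hc), fun y hy => ?_⟩,
    ⟨centralizer_le_normalizer _ (h2 hc), fun y hy => ?_⟩⟩, h2 hc⟩
  · rw [key y hy]; exact one_mem _
  · rw [key y (CP_le _ _ _ hy)]; exact one_mem _

theorem A_odd {c : G} (hc : c ∈ AA V (R i) (K i) w) (ho : Odd (orderOf c)) : c ∈ centralizer (PP V w : Set G) := by
  have hR : ∀ r ∈ R i, c * r = r * c := fun r hr => (mem_centralizer_iff.1 hc.2 r hr).symm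
  have hC : ∀ y ∈ CP V (K i) w, c * y = y * c := by
    intro y hy
    have h1 := hc.1.2.2 y hy
    exact comm_of_odd ho (h.P_two.to_le h.R_le_P) h1 (hR _ h1)
  rw [mem_centralizer_iff]
  intro y hy
  have h1 := hc.1.1.2 y hy
  exact (comm_of_odd ho (h.P_two.to_le (CP_le _ _ _)) h1 (hC _ h1)).symm

theorem A_fac [Finite G] {δ : G} (hδ : δ ∈ AA V (R i) (K i) w) :
    ∃ t ∈ T₁, t ∈ AA V (R i) (K i) w ∧ t⁻¹ * δ ∈ centralizer (PP V w : Set G) :=
  exists_sylow_mul h.T₁p h.T₁max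
    (fun _ ht => mem_normalizer_of_conj fun _ hy => h.norm_A (h.T₁_P ht) (h.T₁R ht) hy)
    h.cen_le_A (h.A_P.trans (normalizer_le_normalizer_centralizer _)) (fun _ hc ho => h.A_odd hc ho) hδ

/-- `[PP, t] ≤ R i` for `t ∈ T ∩ A` -/
theorem T_A [Finite G] {t y : G} (ht : t ∈ T) (hA : t ∈ AA V (R i) (K i) w) (hy : y ∈ PP V w) :
    t * y * t⁻¹ * y⁻¹ ∈ R i := by
  have hR : ∀ r ∈ R i, t * r = r * t := fun r hr => (mem_centralizer_iff.1 hA.2 r hr).symm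
  obtain ⟨v, hv, v', hv', rfl⟩ := h.mem_P.1 hy
  have h1 := h.TR ht hR v hv
  have h2 := h.TR' ht hR v' hv'
  have h3 := h.bt.V_comm v hv _ (h.bt.R_le i h2)
  have e : t * (v * v') * t⁻¹ * (v * v')⁻¹ = (t * v * t⁻¹ * v⁻¹) * (t * v' * t⁻¹ * v'⁻¹) := by
    calc t * (v * v') * t⁻¹ * (v * v')⁻¹ = (t * v * t⁻¹ * v⁻¹) * (v * (t * v' * t⁻¹ * v'⁻¹)) * v⁻¹ := by group
      _ = (t * v * t⁻¹ * v⁻¹) * (t * v' * t⁻¹ * v'⁻¹) := by rw [h3]; group
  rw [e]
  exact mul_mem h1 h2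

/-- (F2) -/
theorem A_NV [Finite G] {δ y : G} (hδ : δ ∈ AA V (R i) (K i) w) (hV : δ ∈ normalizer (V : Set G)) (hy : y ∈ PP V w) :
    δ * y * δ⁻¹ * y⁻¹ ∈ R i := by
  obtain ⟨t, ht, htA, hc⟩ := h.A_fac hδ
  set c := t⁻¹ * δ with hc'
  have e : δ = t * c := by rw [hc']; group
  have hcV : c ∈ normalizer (V : Set G) := centralizer_le_normalizer _ (centralizer_le (V_le_P V w) hc)
  have htV : t ∈ normalizer (V : Set G) := by
    have e' : t = δ * c⁻¹ := by rw [hc']; group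
    rw [e']
    exact mul_mem hV (inv_mem hcV)
  have h1 := h.T_A (h.mem_T ht htV) htA hy
  have h2 := mem_centralizer_iff.1 hc y hy
  have e2 : δ * y * δ⁻¹ * y⁻¹ = t * y * t⁻¹ * y⁻¹ := by
    calc δ * y * δ⁻¹ * y⁻¹ = t * (c * y) * c⁻¹ * t⁻¹ * y⁻¹ := by rw [e]; group
      _ = t * y * t⁻¹ * y⁻¹ := by rw [← h2]; group
  rwa [e2]

/-- (F3) -/
theorem A_two [Finite G] {δ₁ δ₂ y : G} (h₁ : δ₁ ∈ AA V (R i) (K i) w) (hV₁ : δ₁ ∉ normalizer (V : Set G))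
    (h₂ : δ₂ ∈ AA V (R i) (K i) w) (hV₂ : δ₂ ∉ normalizer (V : Set G)) (hy : y ∈ PP V w) :
    (δ₁⁻¹ * δ₂) * y * (δ₁⁻¹ * δ₂)⁻¹ * y⁻¹ ∈ R i := by
  have key : ∀ δ ∈ AA V (R i) (K i) w, δ ∉ normalizer (V : Set G) → ∃ t ∈ T₁, t ∉ T ∧ t ∈ AA V (R i) (K i) w ∧
      ∃ c ∈ centralizer (PP V w : Set G), δ = t * c := by
    intro δ hδ hδV
    obtain ⟨t, ht, htA, hc⟩ := h.A_fac hδ
    refine ⟨t, ht, fun hT => hδV ?_, htA, t⁻¹ * δ, hc, by group⟩
    have e : δ = t * (t⁻¹ * δ) := by group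
    rw [e]
    exact mul_mem (h.TV hT) (centralizer_le_normalizer _ (centralizer_le (V_le_P V w) hc))
  obtain ⟨t₁, ht₁, hn₁, hA₁, c₁, hc₁, rfl⟩ := key δ₁ h₁ hV₁
  obtain ⟨t₂, ht₂, hn₂, hA₂, c₂, hc₂, rfl⟩ := key δ₂ h₂ hV₂
  have hT : t₁⁻¹ * t₂ ∈ T := h.idx _ (inv_mem ht₁) (fun h1 => hn₁ (by
    have := inv_mem h1
    rwa [inv_inv] at this)) _ ht₂ hn₂
  have hA : t₁⁻¹ * t₂ ∈ AA V (R i) (K i) w := mul_mem (inv_mem hA₁) hA₂
  set s := t₁⁻¹ * t₂ with hs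
  have h1 := h.T_A hT hA hy
  have hsy : s * y * s⁻¹ ∈ PP V w := conj_mem_of_normalizer (h.A_P hA) hy
  have h2 := mem_centralizer_iff.1 hc₂ y hy
  have h3 := mem_centralizer_iff.1 hc₁ _ hsy
  have e : ((t₁ * c₁)⁻¹ * (t₂ * c₂)) * y * ((t₁ * c₁)⁻¹ * (t₂ * c₂))⁻¹ * y⁻¹ = s * y * s⁻¹ * y⁻¹ := by
    calc ((t₁ * c₁)⁻¹ * (t₂ * c₂)) * y * ((t₁ * c₁)⁻¹ * (t₂ * c₂))⁻¹ * y⁻¹
        = c₁⁻¹ * (s * (c₂ * y) * c₂⁻¹ * s⁻¹ * c₁) * y⁻¹ := by rw [hs]; group
      _ = c₁⁻¹ * ((s * y * s⁻¹) * c₁) * y⁻¹ := by rw [← h2]; group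
      _ = c₁⁻¹ * (c₁ * (s * y * s⁻¹)) * y⁻¹ := by rw [h3]
      _ = s * y * s⁻¹ * y⁻¹ := by group
  rwa [e]

/-! ### The two movers -/

omit h in
theorem comm_mul {g v f : G} (hf : g * f = f * g) : g * (v * f) * g⁻¹ * (v * f)⁻¹ = g * v * g⁻¹ * v⁻¹ := by
  have e : f * g⁻¹ = g⁻¹ * f := by
    calc f * g⁻¹ = g⁻¹ * (g * f) * g⁻¹ := by group
      _ = g⁻¹ * f := by rw [hf]; group
  calc g * (v * f) * g⁻¹ * (v * f)⁻¹ = g * v * (f * g⁻¹) * f⁻¹ * v⁻¹ := by group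
    _ = g * v * g⁻¹ * v⁻¹ := by rw [e]; group

omit h in
theorem conj_mul_cen {g v f : G} (hf : g * f = f * g) : g * (v * f) * g⁻¹ = g * v * g⁻¹ * f := by
  calc g * (v * f) * g⁻¹ = g * v * g⁻¹ * (g * f) * g⁻¹ := by group
    _ = g * v * g⁻¹ * f := by rw [hf]; group

theorem mover [Finite G] {e e' b : G} (he : e ∈ K i) (he' : e' ∈ K i) (hb : b ∈ XK K)
    (hR : b ∈ normalizer (R i : Set G))
    (c1 : ∀ v ∈ V, e' * (b * v * b⁻¹) * e'⁻¹ * (b * v * b⁻¹)⁻¹ = e * v * e⁻¹ * v⁻¹)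
    (c2 : ∀ v ∈ V, b * (e * v * e⁻¹ * v⁻¹) * b⁻¹ = e' * v * e'⁻¹ * v⁻¹) :
    Mv (PP V w) (CP V (K i) w) (R i) V e e' b where
  bN := h.bP hb
  bR := hR
  c1 := by
    intro y hy
    obtain ⟨v, hv, f, -, hf, rfl⟩ := h.dec hy
    have h1 := mem_centralizer_iff.1 hf b hb
    have h2 := mem_centralizer_iff.1 hf e (K_le_X K i he)
    have h3 := mem_centralizer_iff.1 hf e' (K_le_X K i he')
    rw [conj_mul_cen h1, comm_mul h3, comm_mul h2]
    exact c1 v hv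
  c2 := by
    intro y hy
    obtain ⟨v, hv, f, -, hf, rfl⟩ := h.dec hy
    have h2 := mem_centralizer_iff.1 hf e (K_le_X K i he)
    have h3 := mem_centralizer_iff.1 hf e' (K_le_X K i he')
    rw [comm_mul h3, comm_mul h2]
    exact c2 v hv
  bC := by
    intro y hy
    obtain ⟨r, hr, f, -, hf, rfl⟩ := h.dec_C hy
    rw [comm_mul (mem_centralizer_iff.1 hf b hb)]
    exact mul_mem (conj_mem_of_normalizer hR hr) (inv_mem hr)
  bU := by
    intro y hy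
    obtain ⟨v, hv, f, -, hf, rfl⟩ := h.dec hy
    rw [comm_mul (mem_centralizer_iff.1 hf b hb)]
    exact mul_mem (conj_mem_of_normalizer (h.bt.X_le_NV hb) hv) (inv_mem hv)

/-- `b⁻¹ b'` is in the stability group -/
theorem delta_mem [Finite G] {U U' : Subgroup G} {e e' b b' : G} (he : e ∈ K i)
    (hn : e ∉ centralizer (V : Set G)) (m : Mv (PP V w) (CP V (K i) w) (R i) U e e' b)
    (m' : Mv (PP V w) (CP V (K i) w) (R i) U' e e' b') : b⁻¹ * b' ∈ AA V (R i) (K i) w := by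
  have bt := h.bt
  have heT : e ∈ T := h.QT (bt.K_Q i he)
  have hN : b⁻¹ * b' ∈ normalizer (PP V w : Set G) := mul_mem (inv_mem m.bN) m'.bN
  have hR : b⁻¹ * b' ∈ normalizer (R i : Set G) := mul_mem (inv_mem m.bR) m'.bR
  have hC := h.norm_C hN hR
  refine mem_inf.2 ⟨mem_inf.2 ⟨⟨hC, fun y hy => ?_⟩, ⟨hR, fun y hy => ?_⟩⟩, ?_⟩
  · set z := b' * y * b'⁻¹ with hz
    have hzP : z ∈ PP V w := conj_mem_of_normalizer m'.bN hy
    set y' := b⁻¹ * z * b with hy'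
    have hy'P : y' ∈ PP V w := conj_inv_mem_of_normalizer m.bN hzP
    have e1 := m.c1 y' hy'P
    have e2 := m'.c1 y hy
    have e3 : b * y' * b⁻¹ = z := by rw [hy']; group
    rw [e3] at e1
    rw [← hz, e1] at e2
    -- `e2 : [e, y'] = [e, y]`
    have e4 : b⁻¹ * b' * y * (b⁻¹ * b')⁻¹ * y⁻¹ = y' * y⁻¹ := by rw [hy', hz]; group
    rw [e4]
    have hyy : y' * y⁻¹ ∈ PP V w := mul_mem hy'P (inv_mem hy)
    refine h.mem_C he hn hyy ?_
    set s := e * y * e⁻¹ * y⁻¹ with hs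
    have hsP : s ∈ PP V w := mul_mem (conj_mem_of_normalizer (h.T_P heT) hy) (inv_mem hy)
    have h1 := h.P_comm s hsP _ hyy
    calc e * (y' * y⁻¹) = (e * y' * e⁻¹ * y'⁻¹) * (y' * y⁻¹) * s⁻¹ * e := by rw [hs]; group
      _ = (s * (y' * y⁻¹)) * s⁻¹ * e := by rw [e2]
      _ = y' * y⁻¹ * e := by rw [h1]; group
  · have h1 := m'.bC y hy
    have hy1 : b⁻¹ * y * b ∈ CP V (K i) w := conj_inv_mem_of_normalizer (h.norm_C m.bN m.bR) hy
    have h2 := m.bC _ hy1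
    have h3 := conj_inv_mem_of_normalizer m.bR h1
    have e4 : b⁻¹ * b' * y * (b⁻¹ * b')⁻¹ * y⁻¹ =
        (b⁻¹ * (b' * y * b'⁻¹ * y⁻¹) * b) * (b * (b⁻¹ * y * b) * b⁻¹ * (b⁻¹ * y * b)⁻¹)⁻¹ := by group
    rw [e4]
    exact mul_mem h3 (inv_mem h2)
  · rw [mem_centralizer_iff]
    intro r hr
    obtain ⟨j, hj, -⟩ := bt.third i i
    have hn' : ¬ ∀ a ∈ V, e * a = a * e := fun hc => hn (by
      rw [mem_centralizer_iff]
      exact fun a ha => (hc a ha).symm)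
    obtain ⟨v, hv, rfl⟩ := bt.full (bt.K_Q i he) hn' hj r hr
    have hvP := V_le_P V w (bt.R_le j hv)
    have h1 := m.c2 v hvP
    have h2 := m'.c2 v hvP
    set r := e * v * e⁻¹ * v⁻¹ with hr'
    have h3 : b * r * b⁻¹ = b' * r * b'⁻¹ := h1.trans h2.symm
    calc r * (b⁻¹ * b') = b⁻¹ * (b * r * b⁻¹) * b' := by group
      _ = b⁻¹ * b' * r := by rw [h3]; group

omit h in
/-- a fixed point free element of `N(V)` on `V / R i` -/
theorem surj_of_fpf [Finite G] (b : KT V L R K) {g : G} (hg : g ∈ normalizer (V : Set G))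
    (hf : ∀ v ∈ V, g * v * g⁻¹ * v⁻¹ ∈ R i → v ∈ R i) :
    ∀ v ∈ V, ∃ u ∈ V, ∃ r ∈ R i, v = r * (g * u * g⁻¹ * u⁻¹) := by
  obtain ⟨j, hj, -⟩ := b.third i i
  have hV : ∀ u ∈ V, g * u * g⁻¹ * u⁻¹ ∈ V := fun u hu => mul_mem (conj_mem_of_normalizer hg hu) (inv_mem hu)
  have hch : ∀ u : R j, ∃ c : R j, g * u * g⁻¹ * (u : G)⁻¹ * (c : G)⁻¹ ∈ R i := by
    intro u
    obtain ⟨a, ha, c, hc, e⟩ := b.exists_mul (Ne.symm hj) (hV u (b.R_le j u.2))
    refine ⟨⟨c, hc⟩, ?_⟩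
    rw [e, mul_inv_cancel_right]
    exact ha
  choose φ hφ using hch
  have hinj : Function.Injective φ := by
    intro u v huv
    have h1 := hφ u
    have h2 := hφ v
    rw [huv] at h1
    have h3 := mul_mem h1 (inv_mem h2)
    have hu := b.R_le j u.2
    have hv := b.R_le j v.2
    have h4 : g * ((u : G) * (v : G)⁻¹) * g⁻¹ * ((u : G) * (v : G)⁻¹)⁻¹ ∈ R i := by
      have h5 := b.V_comm _ (mul_mem (inv_mem hu) (hv)) _ (inv_mem (conj_mem_of_normalizer hg hv))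
      have e : g * ((u : G) * (v : G)⁻¹) * g⁻¹ * ((u : G) * (v : G)⁻¹)⁻¹ =
          g * u * g⁻¹ * (u : G)⁻¹ * (φ v : G)⁻¹ * (g * v * g⁻¹ * (v : G)⁻¹ * (φ v : G)⁻¹)⁻¹ := by
        have h6 := b.V_comm _ (inv_mem (b.R_le j (φ v).2)) _ (b.R_le j (φ v).2)
        have h7 := b.V_comm _ (inv_mem hu) _ hv
        calc g * ((u : G) * (v : G)⁻¹) * g⁻¹ * ((u : G) * (v : G)⁻¹)⁻¹
            = (g * u * g⁻¹) * ((g * v * g⁻¹)⁻¹ * (v * (u : G)⁻¹)) := by group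
          _ = (g * u * g⁻¹) * ((g * v * g⁻¹)⁻¹ * ((u : G)⁻¹ * v)) := by rw [h7]
          _ = (g * u * g⁻¹) * (((u : G)⁻¹ * v) * (g * v * g⁻¹)⁻¹) := by rw [h5]
          _ = _ := by group
      rw [e]
      exact h3
    have h5 := hf _ (mul_mem hu (inv_mem hv)) h4
    have h6 := b.eq_one hj (mul_mem u.2 (inv_mem v.2)) h5
    rw [mul_inv_eq_one] at h6
    exact Subtype.ext h6
  have hsurj := Finite.surjective_of_injective hinj
  intro v hv
  obtain ⟨a, ha, c, hc, rfl⟩ := b.exists_mul (Ne.symm hj) hv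
  obtain ⟨u, hu⟩ := hsurj ⟨c, hc⟩
  have h1 := hφ u
  rw [hu] at h1
  have hu' := b.R_le j u.2
  refine ⟨u, hu', a * (g * u * g⁻¹ * (u : G)⁻¹ * c⁻¹)⁻¹, mul_mem ha (inv_mem h1), ?_⟩
  group

/-- `V = V'` follows -/
theorem false_of [Finite G] {e e' b b' : G} (he : e ∈ K i) (he' : e' ∈ K i)
    (hn : e ∉ centralizer (V : Set G)) (hee : e⁻¹ * e' ∉ centralizer (V : Set G)) (hb : b ∈ XK K)
    (m : Mv (PP V w) (CP V (K i) w) (R i) V e e' b)
    (m' : Mv (PP V w) (CP V (K i) w) (R i) (cj w V) e e' b') : False := by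
  have bt := h.bt
  have hbV := bt.X_le_NV hb
  -- `b` is fixed point free on `V / R i`
  have hfpf : ∀ v ∈ V, b * v * b⁻¹ * v⁻¹ ∈ R i → v ∈ R i := by
    intro v hv hr
    by_contra hvR
    set r := b * v * b⁻¹ * v⁻¹ with hr'
    have h1 := m.c1 v (V_le_P V w hv)
    have e1 : b * v * b⁻¹ = r * v := by rw [hr']; group
    have h2 := bt.conj_R (bt.K_Q i he') hr
    have h3 : e' * v * e'⁻¹ * v⁻¹ ∈ V := bt.R_le i (bt.QV i _ (bt.K_Q i he') v hv)
    have h4 := bt.V_comm _ (bt.R_le i hr) _ h3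
    have h5 : e' * v * e'⁻¹ * v⁻¹ = e * v * e⁻¹ * v⁻¹ := by
      rw [← h1, e1]
      calc e' * v * e'⁻¹ * v⁻¹ = (r * (e' * v * e'⁻¹ * v⁻¹)) * r⁻¹ := by rw [h4]; group
        _ = ((e' * r * e'⁻¹) * (e' * v * e'⁻¹ * v⁻¹)) * r⁻¹ := by rw [h2]
        _ = e' * (r * v) * e'⁻¹ * (r * v)⁻¹ := by group
    have h6 : e⁻¹ * e' * v = v * (e⁻¹ * e') := by
      have h7 : e' * v * e'⁻¹ = e * v * e⁻¹ := mul_right_cancel h5
      calc e⁻¹ * e' * v = e⁻¹ * (e' * v * e'⁻¹) * e' := by group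
        _ = v * (e⁻¹ * e') := by rw [h7]; group
    apply hee
    rw [mem_centralizer_iff]
    exact fun a ha => (bt.reg (bt.K_Q i (mul_mem (inv_mem he) he')) hv hvR h6 a ha).symm
  have hsurj := surj_of_fpf bt hbV hfpf
  set δ := b⁻¹ * b' with hδ
  have hA : δ ∈ AA V (R i) (K i) w := h.delta_mem he hn m m'
  have hδR : ∀ r ∈ R i, δ * r * δ⁻¹ = r := by
    intro r hr
    rw [← mem_centralizer_iff.1 hA.2 r hr, mul_inv_cancel_right]
  have hδN : δ ∈ normalizer (V : Set G) := by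
    by_contra hδV
    apply hδV
    refine mem_normalizer_of_conj fun v hv => ?_
    have hδ₂ : b * δ * b⁻¹ ∉ normalizer (V : Set G) := by
      intro h1
      apply hδV
      have h2 := mul_mem (mul_mem (inv_mem hbV) h1) hbV
      have e : b⁻¹ * (b * δ * b⁻¹) * b = δ := by group
      rwa [e] at h2
    obtain ⟨u, hu, r, hr, rfl⟩ := hsurj v hv
    have huP := V_le_P V w hu
    have h1 := h.A_two hA hδV (h.norm_A m.bN m.bR hA) hδ₂ (conj_mem_of_normalizer m.bN huP)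
    set ρ := δ⁻¹ * (b * δ * b⁻¹) * (b * u * b⁻¹) * (δ⁻¹ * (b * δ * b⁻¹))⁻¹ * (b * u * b⁻¹)⁻¹ with hρ
    -- `c = [δ, u] ∈ CP`
    set c := δ * u * δ⁻¹ * u⁻¹ with hc
    have hcC : c ∈ CP V (K i) w := hA.1.1.2 u huP
    have h2 := m.bC c hcC
    set σ := b * c * b⁻¹ * c⁻¹ with hσ
    have h3 : δ * (b * u * b⁻¹) * δ⁻¹ = ρ⁻¹ * (σ * (c * (b * u * b⁻¹))) := by
      have h4 := hδR ρ h1
      calc δ * (b * u * b⁻¹) * δ⁻¹ = (δ * ρ * δ⁻¹)⁻¹ * (δ * (ρ * (b * u * b⁻¹)) * δ⁻¹) := by group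
        _ = ρ⁻¹ * (δ * (ρ * (b * u * b⁻¹)) * δ⁻¹) := by rw [h4]
        _ = ρ⁻¹ * (σ * (c * (b * u * b⁻¹))) := by rw [hρ, hσ, hc]; group
    have hbuP : b * u * b⁻¹ ∈ PP V w := conj_mem_of_normalizer m.bN huP
    have h5 := h.P_comm c (CP_le _ _ _ hcC) _ (mul_mem hbuP (inv_mem huP))
    have h6 : δ * (b * u * b⁻¹ * u⁻¹) * δ⁻¹ = ρ⁻¹ * σ * (b * u * b⁻¹ * u⁻¹) := by
      have h7 := h.P_comm u⁻¹ (inv_mem huP) c⁻¹ (inv_mem (CP_le _ _ _ hcC))
      calc δ * (b * u * b⁻¹ * u⁻¹) * δ⁻¹ = (δ * (b * u * b⁻¹) * δ⁻¹) * (u⁻¹ * c⁻¹) := by rw [hc]; group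
        _ = (ρ⁻¹ * (σ * (c * (b * u * b⁻¹)))) * (u⁻¹ * c⁻¹) := by rw [h3]
        _ = ρ⁻¹ * σ * (c * (b * u * b⁻¹ * u⁻¹)) * c⁻¹ := by group
        _ = ρ⁻¹ * σ * (b * u * b⁻¹ * u⁻¹) := by rw [h5]; group
    have h8 : δ * (r * (b * u * b⁻¹ * u⁻¹)) * δ⁻¹ = r * (ρ⁻¹ * σ * (b * u * b⁻¹ * u⁻¹)) := by
      calc δ * (r * (b * u * b⁻¹ * u⁻¹)) * δ⁻¹ = (δ * r * δ⁻¹) * (δ * (b * u * b⁻¹ * u⁻¹) * δ⁻¹) := by group
        _ = r * (ρ⁻¹ * σ * (b * u * b⁻¹ * u⁻¹)) := by rw [hδR r hr, h6]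
    rw [h8]
    exact mul_mem (bt.R_le i hr) (mul_mem (bt.R_le i (mul_mem (inv_mem h1) h2))
      (mul_mem (conj_mem_of_normalizer hbV hu) (inv_mem hu)))
  -- `V ≤ V'`
  have hle : V ≤ cj w V := by
    intro v hv
    obtain ⟨u, hu, r, hr, rfl⟩ := hsurj v hv
    have huP := V_le_P V w hu
    have h1 := h.A_NV hA hδN huP
    have h2 := m'.bU u huP
    have h3 := conj_mem_of_normalizer m.bR (inv_mem h1)
    have e : r * (b * u * b⁻¹ * u⁻¹) = r * (b * (δ * u * δ⁻¹ * u⁻¹)⁻¹ * b⁻¹) * (b' * u * b'⁻¹ * u⁻¹) := by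
      rw [hδ]; group
    rw [e]
    exact mul_mem (mul_mem (h.R_le_V' hr) (h.R_le_V' h3)) h2
  apply h.wV
  exact (Subgroup.eq_of_le_of_card_ge hle (by rw [card_cj])).symm

end Hyp

/-- the field input: `b ∈ X ∩ N(R i)` moving `e` to `e'` -/
def FQ (V : Subgroup G) (R K : ι → Subgroup G) (i : ι) : Prop :=
  ∀ e ∈ K i, e ∉ centralizer (V : Set G) → ∀ e' ∈ K i, e' ∉ centralizer (V : Set G) →
    ∃ b ∈ XK K, b ∈ normalizer (R i : Set G) ∧
      (∀ v ∈ V, e' * (b * v * b⁻¹) * e'⁻¹ * (b * v * b⁻¹)⁻¹ = e * v * e⁻¹ * v⁻¹) ∧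
      ∀ v ∈ V, b * (e * v * e⁻¹ * v⁻¹) * b⁻¹ = e' * v * e'⁻¹ * v⁻¹

/-- **(2a) is impossible for `q ≥ 4`** -/
theorem Hyp.false_four [Finite G] {V L : Subgroup G} {R K : ι → Subgroup G} {i : ι} {T₁ T : Subgroup G} {w x : G}
    (h : Hyp V L R K i T₁ T w x) (hFQ : FQ V R K i)
    (h4 : ∃ e ∈ K i, e ∉ centralizer (V : Set G) ∧ ∃ e' ∈ K i, e' ∉ centralizer (V : Set G) ∧
      e⁻¹ * e' ∉ centralizer (V : Set G)) : False := by
  obtain ⟨e, he, hn, e', he', hn', hee⟩ := h4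
  obtain ⟨b, hb, hbR, c1, c2⟩ := hFQ e he hn e' he' hn'
  have m := h.mover he he' hb hbR c1 c2
  have hwR := h.T₁R h.wT₁
  have key : ∀ a ∈ K i, a ∉ centralizer (V : Set G) →
      w⁻¹ * a * w ∈ K i ∧ w⁻¹ * a * w ∉ centralizer (V : Set G) := by
    intro a ha han
    refine ⟨conj_inv_mem_of_normalizer (h.bt.N_K i hwR) ha, fun hc => han ?_⟩
    apply h.cen_T' (h.QT (h.bt.K_Q i ha))
    rw [centralizer_cj, mem_cj]
    exact hc
  obtain ⟨k1, k2⟩ := key e he hn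
  obtain ⟨k3, k4⟩ := key e' he' hn'
  obtain ⟨b₀, hb₀, hbR₀, d1, d2⟩ := hFQ _ k1 k2 _ k3 k4
  have m' := (h.mover k1 k3 hb₀ hbR₀ d1 d2).conj h.wP (h.norm_C h.wP hwR) hwR
  exact h.false_of he he' hn hee hb m m'

end Cfsg.Agent.Omega.IId.Cv.TwoFour

end

end

-- merged: Cfsg.Agent.Mrg.Omega.IId.Cv.TwoFourR
section

/-!
# `WrCv`, CASE 2a, `q ≥ 4` : relative natural modules `RMod F V N` (helper796)

* `AtLine M w` : the data at the line `R = M.line w`: `V ≤ Q = O₂(N_G(R)) ≤ UW w`, `KX R` full on `V`, `cen`;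
* `AtLine.kt` : `KT V N (pt M) (KX (pt M ·))`;
* `AtLine.fq`, `AtLine.h4` : the field input of `Hyp.false_four`;
* `full_of_mover` : `KX R` is full if it moves `V`;
* `Partner` : a natural module `V' ≤ KX R` with the line `R` which does not commute with `V`; `Partner.at10`.
-/

set_option autoImplicit false
set_option linter.unusedSectionVars false

namespace Cfsg.Agent.Omega.IId.Cv.TwoFour

open Subgroup Cfsg.Agent.Lib.SL2Mat Cfsg.Agent.Omega.BTwo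
open Cfsg.Agent.Omega.NatPair (dt dt_add dt_smul exists_smul_of_dt exists_comb ap ap_smul ap_add ap_zero' ap_one'
  ap_mul ap_inv_ap ap_ap_inv ap_one exists_ap exists_ap_e ap_up_e ext2)
open Cfsg.Agent.Omega.Mix (RMod Pt pt Char2)
open Cfsg.Agent.Omega.IId.NV (KX mem_KX normalizer_le_normalizer_KX KX_le)

universe u

/-! ### `KX` and conjugation -/

section kx

variable {G : Type u} [Group G]

theorem cj_KX_le (g : G) (R : Subgroup G) : cj g (KX R) ≤ KX (cj g R) := by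
  rintro _ ⟨a, ha, rfl⟩
  change g * a * g⁻¹ ∈ KX (cj g R)
  obtain ⟨h1, h2⟩ := mem_KX.1 ha
  rw [mem_KX]
  refine ⟨fun y hy => ?_, fun q hq => ?_⟩
  · have h3 := h1 _ (mem_cj.1 hy)
    calc g * a * g⁻¹ * y = g * (a * (g⁻¹ * y * g)) * g⁻¹ := by group
      _ = g * (g⁻¹ * y * g * a) * g⁻¹ := by rw [h3]
      _ = y * (g * a * g⁻¹) := by group
  · have hq' : q ∈ cj g (QQ R) := by
      rw [Mix.cj_QQ]
      exact hq
    have h3 := h2 _ (mem_cj.1 hq')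
    rw [mem_cj]
    have e : g⁻¹ * (g * a * g⁻¹ * q * (g * a * g⁻¹)⁻¹ * q⁻¹) * g = a * (g⁻¹ * q * g) * a⁻¹ * (g⁻¹ * q * g)⁻¹ := by
      group
    rw [e]
    exact h3

theorem cj_KX (g : G) (R : Subgroup G) : cj g (KX R) = KX (cj g R) := by
  apply le_antisymm (cj_KX_le g R)
  have h := cj_mono (g := g) (cj_KX_le g⁻¹ (cj g R))
  rwa [cj_cj_inv, cj_inv_cj] at h

theorem char2_cj {H : Subgroup G} (h : Char2 H) (g : G) : Char2 (cj g H) := by
  intro x hx hq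
  rw [← cj_O2] at hq ⊢
  rw [mem_cj]
  refine h _ (mem_cj.1 hx) fun q hq' => ?_
  have h1 := hq _ (conj_mem_cj (g := g) hq')
  calc g⁻¹ * x * g * q = g⁻¹ * (x * (g * q * g⁻¹)) * g := by group
    _ = g⁻¹ * (g * q * g⁻¹ * x) * g := by rw [h1]
    _ = q * (g⁻¹ * x * g) := by group

end kx

/-! ### The data at a line -/

variable {G : Type u} [Group G] {F : Type*} [Field F] {V N : Subgroup G} {M : RMod F V N}

/-- the data at the line `M.line w` -/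
structure AtLine (M : RMod F V N) (w : Fin 2 → F) : Prop where
  ch : Char2 (normalizer (M.line w : Set G))
  VQ : V ≤ QQ (M.line w)
  QU : QQ (M.line w) ≤ M.UW w
  full : M.Full (KX (M.line w)) w
  cen : ∀ x ∈ QQ (M.line w), (∀ u ∈ KX (M.line w), u ∈ centralizer (V : Set G) → x * u = u * x) →
    ∃ v ∈ V, v⁻¹ * x ∈ centralizer (KX (M.line w) : Set G)

theorem conj_UW {w : Fin 2 → F} {l : G} {A : Matrix.SpecialLinearGroup (Fin 2) F} (hl : M.Ind l A) {x : G}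
    (hx : x ∈ M.UW w) : l * x * l⁻¹ ∈ M.UW (ap A w) := by
  obtain ⟨B, hB, hB'⟩ := hx
  refine ⟨A * B * A⁻¹, ?_, fun y => ?_⟩
  · rw [ap_mul, ap_mul, ap_inv_ap, hB]
  · have h1 : l⁻¹ * M.e y * l = M.e (ap A⁻¹ y) := by
      have h2 := hl (ap A⁻¹ y)
      rw [ap_ap_inv] at h2
      rw [← h2]; group
    calc l * x * l⁻¹ * M.e y * (l * x * l⁻¹)⁻¹ = l * (x * (l⁻¹ * M.e y * l) * x⁻¹) * l⁻¹ := by group
      _ = M.e (ap (A * B * A⁻¹) y) := by rw [h1, hB', hl, ap_mul, ap_mul]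

theorem AtLine.cj {w : Fin 2 → F} (a : AtLine M w) {l : G} {A : Matrix.SpecialLinearGroup (Fin 2) F}
    (hl : M.Ind l A) : AtLine M (ap A w) := by
  have e : BTwo.cj l (M.line w) = M.line (ap A w) := M.cj_line_of_ind hl w
  have hV : BTwo.cj l V = V := cj_eq_self_iff.2 (M.le (M.mem_normalizer hl))
  have eQ : BTwo.cj l (QQ (M.line w)) = QQ (M.line (ap A w)) := by rw [Mix.cj_QQ, e]
  have eK : BTwo.cj l (KX (M.line w)) = KX (M.line (ap A w)) := by rw [cj_KX, e]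
  constructor
  · rw [← e, normalizer_cj]
    exact char2_cj a.ch l
  · rw [← eQ]
    have h := cj_mono (g := l) a.VQ
    rwa [hV] at h
  · rw [← eQ]
    rintro _ ⟨x, hx, rfl⟩
    exact conj_UW hl (a.QU hx)
  · intro B hB
    have h1 : ap (A⁻¹ * B * A) w = w := by
      rw [ap_mul, ap_mul, hB, ap_inv_ap]
    obtain ⟨t, ht, htB⟩ := a.full _ h1
    refine ⟨l * t * l⁻¹, ?_, fun y => ?_⟩
    · rw [← eK]
      exact conj_mem_cj ht
    · have h2 : l⁻¹ * M.e y * l = M.e (ap A⁻¹ y) := by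
        have h2 := hl (ap A⁻¹ y)
        rw [ap_ap_inv] at h2
        rw [← h2]; group
      calc l * t * l⁻¹ * M.e y * (l * t * l⁻¹)⁻¹ = l * (t * (l⁻¹ * M.e y * l) * t⁻¹) * l⁻¹ := by group
        _ = M.e (ap B y) := by
          rw [h2, htB, hl, ap_mul, ap_mul, ap_ap_inv, ap_ap_inv]
  · intro x hx hu
    rw [← eQ] at hx
    rw [← eK] at hu ⊢
    obtain ⟨v, hv, h1⟩ := a.cen _ (mem_cj.1 hx) fun u huK huV => by
      have h2 : l * u * l⁻¹ ∈ centralizer (V : Set G) := by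
        have h3 := conj_mem_cj (g := l) huV
        rwa [← centralizer_cj, hV] at h3
      have h3 := hu _ (conj_mem_cj huK) h2
      calc l⁻¹ * x * l * u = l⁻¹ * (x * (l * u * l⁻¹)) * l := by group
        _ = l⁻¹ * (l * u * l⁻¹ * x) * l := by rw [h3]
        _ = u * (l⁻¹ * x * l) := by group
    refine ⟨l * v * l⁻¹, ?_, ?_⟩
    · have h3 := conj_mem_cj (g := l) hv
      rwa [hV] at h3
    · rw [centralizer_cj, mem_cj]
      have e1 : l⁻¹ * ((l * v * l⁻¹)⁻¹ * x) * l = v⁻¹ * (l⁻¹ * x * l) := by group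
      rw [e1]
      exact h1

theorem AtLine.all {w₀ : Fin 2 → F} (hw₀ : w₀ ≠ 0) (a : AtLine M w₀) {w : Fin 2 → F} (hw : w ≠ 0) : AtLine M w := by
  obtain ⟨A, hA⟩ := exists_ap hw₀ hw
  obtain ⟨l, hl⟩ := M.lift A
  have := a.cj hl
  rwa [hA] at this

variable [Finite G] [Finite F] [CharP F 2]

theorem AtLine.KQ {w : Fin 2 → F} (a : AtLine M w) : KX (M.line w) ≤ QQ (M.line w) := by
  refine KX_le ?_ fun y hy => M.sq (M.line_le w hy)
  rintro x ⟨hx1, hx2⟩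
  exact a.ch x hx1 fun q hq => (mem_centralizer_iff.1 hx2 q hq).symm

/-- **`KT`** -/
theorem AtLine.kt {w₀ : Fin 2 → F} (hw₀ : w₀ ≠ 0) (a₀ : AtLine M w₀) :
    KT V N (pt M) (fun i => KX (pt M i)) := by
  have all : ∀ i : Pt M, ∃ w, w ≠ 0 ∧ i.1 = M.line w ∧ AtLine M w := by
    rintro ⟨_, w, hw, rfl⟩
    exact ⟨w, hw, rfl, a₀.all hw₀ hw⟩
  refine
    { V_comm := fun a ha b hb => M.comm ha hb
      V_sq := fun a ha => M.sq ha
      R_le := M.pt_le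
      R_inf := ?_
      R_sup := ?_
      R_cov := ?_
      R_ne := M.pt_ne
      third := M.third
      L_V := M.le
      perm := fun g hg i => M.cj_pt hg i
      V_Q := ?_
      Q_L := ?_
      QV := ?_
      QR := ?_
      K_Q := ?_
      KQ := ?_
      cj_K := fun g i j h => by rw [cj_KX, h]
      tr := ?_
      cenU := ?_ }
  · intro i j hij
    obtain ⟨w, hw, hi, -⟩ := all i
    obtain ⟨u, hu, hj, -⟩ := all j
    show i.1 ⊓ j.1 = ⊥
    have h1 := M.pt_dt hij hw hu hi hj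
    rw [hi, hj]
    exact M.line_inf h1
  · intro i j hij
    apply le_antisymm (sup_le (M.pt_le i) (M.pt_le j))
    intro v hv
    obtain ⟨w, hw, hi, -⟩ := all i
    obtain ⟨u, hu, hj, -⟩ := all j
    have h1 := M.pt_dt hij hw hu hi hj
    obtain ⟨y, rfl⟩ := (M.mem_iff v).1 hv
    obtain ⟨α, β, rfl⟩ := exists_comb h1 y
    rw [M.e_add]
    refine mul_mem_sup ?_ ?_
    · show _ ∈ i.1
      rw [hi]
      exact ⟨α, rfl⟩
    · show _ ∈ j.1
      rw [hj]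
      exact ⟨β, rfl⟩
  · intro v hv
    obtain ⟨y, rfl⟩ := (M.mem_iff v).1 hv
    by_cases hy : y = 0
    · refine ⟨⟨M.line w₀, w₀, hw₀, rfl⟩, ?_⟩
      rw [hy, M.e_zero]
      exact one_mem _
    · exact ⟨⟨M.line y, y, hy, rfl⟩, 1, by rw [one_smul]⟩
  · intro i
    obtain ⟨w, hw, hi, a⟩ := all i
    show V ≤ QQ i.1
    rw [hi]
    exact a.VQ
  · intro i
    obtain ⟨w, hw, hi, a⟩ := all i
    show QQ i.1 ≤ N
    rw [hi]
    exact a.QU.trans (M.UW_le w)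
  · intro i
    obtain ⟨w, hw, hi, a⟩ := all i
    show ∀ g ∈ QQ i.1, ∀ v ∈ V, g * v * g⁻¹ * v⁻¹ ∈ i.1
    rw [hi]
    exact fun g hg v hv => M.UW_comm hw (a.QU hg) hv
  · intro i
    obtain ⟨w, hw, hi, a⟩ := all i
    show ∀ g ∈ QQ i.1, ∀ r ∈ i.1, g * r = r * g
    rw [hi]
    exact fun g hg r hr => M.UW_cent (a.QU hg) hr
  · intro i
    obtain ⟨w, hw, hi, a⟩ := all i
    show KX i.1 ≤ QQ i.1
    rw [hi]
    exact a.KQ
  · intro i g hg t ht
    have h1 := (mem_KX.1 ht).2 g hg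
    have e : g * t * g⁻¹ * t⁻¹ = (t * g * t⁻¹ * g⁻¹)⁻¹ := by group
    rw [e]
    exact inv_mem h1
  · intro i j k hj hk
    obtain ⟨w, hw, hi, a⟩ := all i
    obtain ⟨u, hu, hj'⟩ := j.2
    obtain ⟨u', hu', hk'⟩ := k.2
    have h1 := M.pt_dt hj.symm hw hu hi hj'
    have h2 := M.pt_dt hk.symm hw hu' hi hk'
    obtain ⟨t, ht, htu⟩ := a.full.move h1 h2
    refine ⟨t, ?_, ?_⟩
    · show t ∈ KX i.1
      rw [hi]
      exact ht
    · show BTwo.cj t j.1 = k.1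
      rw [hj', hk']
      exact htu
  · intro i
    obtain ⟨w, hw, hi, a⟩ := all i
    show ∀ x ∈ QQ i.1, (∀ u ∈ KX i.1, u ∈ centralizer (V : Set G) → x * u = u * x) →
      ∃ v ∈ V, v⁻¹ * x ∈ centralizer (KX i.1 : Set G)
    rw [hi]
    exact a.cen

/-! ### The field input -/

omit [Finite G] [Finite F] [CharP F 2] in
theorem eq_up {B : Matrix.SpecialLinearGroup (Fin 2) F} (hB : ap B ![1, 0] = ![1, 0]) : B = up (ent B 0 1) := by
  have h0 := congrFun hB 0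
  have h1 := congrFun hB 1
  rw [ap_zero'] at h0
  rw [ap_one'] at h1
  simp only [Matrix.cons_val_zero, Matrix.cons_val_one, mul_one, mul_zero, add_zero] at h0 h1
  have hd := det_eq B
  rw [h0, h1] at hd
  have h11 : ent B 1 1 = 1 := by
    rw [one_mul, mul_zero, sub_zero] at hd
    exact hd
  refine ext_ent ?_ ?_ ?_ ?_
  · rw [h0, up_00]
  · rw [up_01]
  · rw [h1, up_10]
  · rw [h11, up_11]

omit [Finite G] [Finite F] [CharP F 2] in
theorem exists_up {x : G} (hx : x ∈ M.UW ![1, 0]) : ∃ β : F, M.Ind x (up β) := by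
  obtain ⟨B, hB, hB'⟩ := hx
  refine ⟨ent B 0 1, ?_⟩
  rw [← eq_up hB]
  exact hB'

omit [Finite G] [Finite F] [CharP F 2] in
theorem ind_cen {x : G} (hx : M.Ind x (up 0)) : x ∈ centralizer (V : Set G) := by
  rw [mem_centralizer_iff]
  intro v hv
  obtain ⟨y, rfl⟩ := (M.mem_iff v).1 hv
  have h1 := hx y
  rw [up_zero, ap_one, mul_inv_eq_iff_eq_mul] at h1
  exact h1.symm

omit [Finite G] [Finite F] [CharP F 2] in
theorem zero_of_cen {x : G} {β : F} (hx : M.Ind x (up β)) (hc : x ∈ centralizer (V : Set G)) : β = 0 := by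
  have h1 := hx ![0, 1]
  have h2 := mem_centralizer_iff.1 hc _ (M.e_mem ![0, 1])
  rw [← h2, mul_inv_cancel_right] at h1
  have h3 := congrFun (M.e_inj h1) 0
  rw [ap_zero'] at h3
  simpa using h3.symm

omit [Finite G] [Finite F] [CharP F 2] in
theorem ap_up_sub (β : F) (y : Fin 2 → F) : ap (up β) y - y = ![β * y 1, 0] := by
  apply ext2
  · rw [Pi.sub_apply, ap_zero']; simp
  · rw [Pi.sub_apply, ap_one']; simp

omit [Finite G] [Finite F] [CharP F 2] in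
theorem comm_up {x : G} {β : F} (hx : M.Ind x (up β)) (y : Fin 2 → F) :
    x * M.e y * x⁻¹ * (M.e y)⁻¹ = M.e ![β * y 1, 0] := by
  rw [hx, ← M.e_sub, ap_up_sub]

theorem vec10_ne : (![1, 0] : Fin 2 → F) ≠ 0 := by
  intro h
  have := congrFun h 0
  simp at this

theorem vec01_ne : (![0, 1] : Fin 2 → F) ≠ 0 := by
  intro h
  have := congrFun h 1
  simp at this

/-- the line of `![1, 0]` as a point -/
def i₀ (M : RMod F V N) : Pt M := ⟨M.line ![1, 0], ![1, 0], vec10_ne, rfl⟩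

/-- every element of `SL₂(F)` is induced by an element of `⟨KX (R i)⟩` -/
theorem AtLine.ind_X (a : AtLine M ![1, 0]) (A : Matrix.SpecialLinearGroup (Fin 2) F) :
    ∃ x ∈ XK (fun i : Pt M => KX (pt M i)), M.Ind x A := by
  have hup : ∀ β : F, ∃ x ∈ XK (fun i : Pt M => KX (pt M i)), M.Ind x (up β) := by
    intro β
    obtain ⟨t, ht, htB⟩ := a.full (up β) (ap_up_e β)
    exact ⟨t, K_le_X (fun i : Pt M => KX (pt M i)) (i₀ M) ht, htB⟩
  have hlo : ∀ β : F, ∃ x ∈ XK (fun i : Pt M => KX (pt M i)), M.Ind x (lo β) := by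
    intro β
    have a' := a.all vec10_ne (vec01_ne (F := F))
    obtain ⟨t, ht, htB⟩ := a'.full (lo β) (by
      apply ext2
      · rw [ap_zero']; simp
      · rw [ap_one']; simp)
    exact ⟨t, K_le_X (fun i : Pt M => KX (pt M i)) ⟨M.line ![0, 1], ![0, 1], vec01_ne, rfl⟩ ht, htB⟩
  have hmul : ∀ {A B : Matrix.SpecialLinearGroup (Fin 2) F}, (∃ x ∈ XK (fun i : Pt M => KX (pt M i)), M.Ind x A) →
      (∃ x ∈ XK (fun i : Pt M => KX (pt M i)), M.Ind x B) →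
      ∃ x ∈ XK (fun i : Pt M => KX (pt M i)), M.Ind x (A * B) := by
    rintro A B ⟨x, hx, hA⟩ ⟨y, hy, hB⟩
    refine ⟨x * y, mul_mem hx hy, fun z => ?_⟩
    have e : x * y * M.e z * (x * y)⁻¹ = x * (y * M.e z * y⁻¹) * x⁻¹ := by group
    rw [e, hB, hA, ap_mul]
  obtain ⟨p, q, r, s, rfl⟩ := exists_up_lo A
  exact hmul (hmul (hmul (hup p) (hlo q)) (hup r)) (hlo s)

/-- the field input of `Hyp.false_four` -/
theorem AtLine.fq (a : AtLine M ![1, 0]) : FQ V (pt M) (fun i => KX (pt M i)) (i₀ M) := by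
  intro e he hn e' he' hn'
  have he1 : e ∈ KX (M.line ![1, 0]) := he
  have he1' : e' ∈ KX (M.line ![1, 0]) := he'
  obtain ⟨β, hβ⟩ := exists_up (a.QU (a.KQ he1))
  obtain ⟨β', hβ'⟩ := exists_up (a.QU (a.KQ he1'))
  have h0 : β ≠ 0 := by
    rintro rfl
    exact hn (ind_cen hβ)
  have h0' : β' ≠ 0 := by
    rintro rfl
    exact hn' (ind_cen hβ')
  have hμ : β' / β ≠ 0 := div_ne_zero h0' h0
  obtain ⟨b, hb, hbI⟩ := a.ind_X (dg (β' / β) hμ)
  refine ⟨b, hb, ?_, ?_, ?_⟩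
  · show b ∈ normalizer (M.line ![1, 0] : Set G)
    rw [← cj_eq_self_iff]
    have e1 : ap (dg (β' / β) hμ) ![1, 0] = (β' / β) • ![1, 0] := by
      apply ext2
      · rw [ap_zero']; simp
      · rw [ap_one']; simp
    have e2 := M.cj_line_of_ind hbI ![1, 0]
    rw [e1, M.line_smul hμ] at e2
    exact e2
  · intro v hv
    obtain ⟨y, rfl⟩ := (M.mem_iff v).1 hv
    rw [hbI, comm_up hβ', comm_up hβ]
    congr 2
    rw [ap_one']
    simp only [dg_10, dg_11, zero_mul, zero_add]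
    field_simp
  · intro v hv
    obtain ⟨y, rfl⟩ := (M.mem_iff v).1 hv
    rw [comm_up hβ', comm_up hβ, hbI]
    congr 1
    apply ext2
    · rw [ap_zero']
      simp only [dg_00, dg_01, Matrix.cons_val_zero, Matrix.cons_val_one, mul_zero, add_zero]
      field_simp
    · rw [ap_one']
      simp

theorem AtLine.h4 (a : AtLine M ![1, 0]) (h4 : 4 ≤ Nat.card F) :
    ∃ e ∈ KX (pt M (i₀ M)), e ∉ centralizer (V : Set G) ∧ ∃ e' ∈ KX (pt M (i₀ M)), e' ∉ centralizer (V : Set G) ∧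
      e⁻¹ * e' ∉ centralizer (V : Set G) := by
  classical
  obtain ⟨c, hc0, hc1⟩ : ∃ c : F, c ≠ 0 ∧ c ≠ 1 := by
    have := Fintype.ofFinite F
    by_contra hcon
    push Not at hcon
    have h1 : (Finset.univ : Finset F) ⊆ {0, 1} := by
      intro x _
      rw [Finset.mem_insert, Finset.mem_singleton]
      by_cases hx : x = 0
      · exact Or.inl hx
      · exact Or.inr (hcon x hx)
    have h2 := Finset.card_le_card h1
    rw [Finset.card_univ, ← Nat.card_eq_fintype_card] at h2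
    have h3 : ({0, 1} : Finset F).card ≤ 2 := Finset.card_le_two
    omega
  obtain ⟨e, he, heI⟩ := a.full (up 1) (ap_up_e 1)
  obtain ⟨e', he', heI'⟩ := a.full (up c) (ap_up_e c)
  refine ⟨e, he, fun h => one_ne_zero (zero_of_cen heI h), e', he', fun h => hc0 (zero_of_cen heI' h), fun h => ?_⟩
  have hI : M.Ind (e⁻¹ * e') (up (c - 1)) := by
    intro z
    have h1 : e⁻¹ * M.e (ap (up c) z) * e = M.e (ap (up (-1)) (ap (up c) z)) := by
      have h2 := heI (ap (up (-1)) (ap (up c) z))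
      have h3 : ∀ y : Fin 2 → F, ap (up 1) (ap (up (-1)) y) = y := by
        intro y
        rw [← ap_mul, up_mul, add_neg_cancel, up_zero, ap_one]
      rw [h3] at h2
      rw [← h2]; group
    calc e⁻¹ * e' * M.e z * (e⁻¹ * e')⁻¹ = e⁻¹ * (e' * M.e z * e'⁻¹) * e := by group
      _ = M.e (ap (up (c - 1)) z) := by rw [heI', h1, ← ap_mul, up_mul]; congr 3; ring
  exact hc1 (sub_eq_zero.1 (zero_of_cen hI h))

/-- `KX R` is full on `V` if it moves `V` -/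
theorem full_of_mover (hU : KX (M.line ![1, 0]) ≤ M.UW ![1, 0])
    (hm : ∃ t ∈ KX (M.line ![1, 0]), ∃ v ∈ V, t * v ≠ v * t) : M.Full (KX (M.line ![1, 0])) ![1, 0] := by
  obtain ⟨t, ht, v, hv, hne⟩ := hm
  obtain ⟨β, hβ⟩ := exists_up (hU ht)
  have h0 : β ≠ 0 := by
    rintro rfl
    exact hne (mem_centralizer_iff.1 (ind_cen hβ) v hv).symm
  intro B hB
  obtain ⟨β', rfl⟩ : ∃ β', B = up β' := ⟨_, eq_up hB⟩
  by_cases h0' : β' = 0
  · refine ⟨1, one_mem _, fun z => ?_⟩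
    rw [h0', up_zero, ap_one, one_mul, inv_one, mul_one]
  obtain ⟨μ, hμ⟩ : ∃ μ : F, β' / β = μ * μ := FiniteField.isSquare_of_char_two (ringChar.eq F 2) _
  have hμ0 : μ ≠ 0 := by
    rintro rfl
    rw [mul_zero] at hμ
    exact div_ne_zero h0' h0 hμ
  obtain ⟨l, hl⟩ := M.lift (dg μ hμ0)
  have hlR : l ∈ normalizer (M.line ![1, 0] : Set G) := by
    rw [← cj_eq_self_iff]
    have e1 : ap (dg μ hμ0) ![1, 0] = μ • ![1, 0] := by
      apply ext2
      · rw [ap_zero']; simp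
      · rw [ap_one']; simp
    have e2 := M.cj_line_of_ind hl ![1, 0]
    rw [e1, M.line_smul hμ0] at e2
    exact e2
  refine ⟨l * t * l⁻¹, conj_mem_of_normalizer (normalizer_le_normalizer_KX _ hlR) ht, fun z => ?_⟩
  have h2 : l⁻¹ * M.e z * l = M.e (ap (dg μ hμ0)⁻¹ z) := by
    have h2 := hl (ap (dg μ hμ0)⁻¹ z)
    rw [ap_ap_inv] at h2
    rw [← h2]; group
  have h3 : dg μ hμ0 * up β = up β' * dg μ hμ0 := by
    rw [dg_up]
    congr 2
    rw [pow_two, ← hμ]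
    field_simp
  calc l * t * l⁻¹ * M.e z * (l * t * l⁻¹)⁻¹ = l * (t * (l⁻¹ * M.e z * l) * t⁻¹) * l⁻¹ := by group
    _ = M.e (ap (up β') z) := by
      rw [h2, hβ, hl, ← ap_mul, ← ap_mul, h3, mul_assoc, mul_inv_cancel, mul_one]

/-- an element which commutes with `O₂(N_G(R))` and with a lift of every element of `SL₂(F)` centralises `X` -/
theorem AtLine.cen_X (a : AtLine M ![1, 0]) {x : G} (h0 : ∀ q ∈ QQ (M.line ![1, 0]), q * x = x * q)
    (hA : ∀ A, ∃ l, M.Ind l A ∧ l * x = x * l) : x ∈ centralizer (XK (fun i : Pt M => KX (pt M i)) : Set G) := by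
  have key : XK (fun i : Pt M => KX (pt M i)) ≤ centralizer ({x} : Set G) := by
    refine iSup_le fun i => ?_
    obtain ⟨_, w, hw, rfl⟩ := i
    obtain ⟨A, hAw⟩ := exists_ap vec10_ne hw
    obtain ⟨l, hl, hlx⟩ := hA A
    have e : BTwo.cj l (M.line ![1, 0]) = M.line w := by
      have := M.cj_line_of_ind hl ![1, 0]
      rw [hAw] at this
      exact this
    show KX (M.line w) ≤ centralizer ({x} : Set G)
    rw [← e, ← cj_KX]
    rintro _ ⟨t, ht, rfl⟩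
    change l * t * l⁻¹ ∈ centralizer ({x} : Set G)
    rw [mem_centralizer_singleton_iff]
    have h1 := h0 t (a.KQ ht)
    have h2 : l⁻¹ * x = x * l⁻¹ := by
      calc l⁻¹ * x = l⁻¹ * (x * l) * l⁻¹ := by group
        _ = l⁻¹ * (l * x) * l⁻¹ := by rw [hlx]
        _ = x * l⁻¹ := by group
    calc l * t * l⁻¹ * x = l * t * (l⁻¹ * x) := by group
      _ = l * (t * x) * l⁻¹ := by rw [h2]; group
      _ = (l * x) * t * l⁻¹ := by rw [h1]; group
      _ = x * (l * t * l⁻¹) := by rw [hlx]; group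
  rw [mem_centralizer_iff]
  intro y hy
  exact mem_centralizer_singleton_iff.1 (key hy)

/-! ### Partners -/

section partner

variable {F' : Type*} [Field F'] [Finite F'] [CharP F' 2] {V' N' : Subgroup G} {M' : RMod F' V' N'}

/-- `V' ≤ KX R` is a natural module (relative to `N' ≥ O₂(N_G(R))`) with the line `R`, not commuting with `V`. -/
structure Partner (R : Subgroup G) (M : RMod F V N) (M' : RMod F' V' N') : Prop where
  K' : V' ≤ KX R
  VQ : V ≤ QQ R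
  QN : QQ R ≤ N
  QN' : QQ R ≤ N'
  ne : ∃ v ∈ V, ∃ w ∈ V', v * w ≠ w * v
  line : ∃ w, w ≠ 0 ∧ R = M.line w
  line' : ∃ w, w ≠ 0 ∧ R = M'.line w

/-- **the data from a partner** -/
theorem Partner.atLine {R : Subgroup G} (p : Partner R M M') (ch : Char2 (normalizer (R : Set G))) :
    ∃ w, w ≠ 0 ∧ R = M.line w ∧ AtLine M w := by
  obtain ⟨w₀, hw₀, h1⟩ := p.line
  obtain ⟨w₀', hw₀', h1'⟩ := p.line'
  have hKQ : KX R ≤ QQ R := by
    refine KX_le ?_ fun y hy => ?_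
    · rintro x ⟨hx1, hx2⟩
      exact ch x hx1 fun q hq => (mem_centralizer_iff.1 hx2 q hq).symm
    · rw [h1] at hy
      exact M.sq (M.line_le w₀ hy)
  have hV'Q : V' ≤ QQ R := p.K'.trans hKQ
  have hm : Mix.RMutual V V' N N' := ⟨hV'Q.trans p.QN, p.VQ.trans p.QN', p.ne⟩
  have hR : V ⊓ V' = R := by
    obtain ⟨-, w, w', hw, -, hl, -⟩ := Mix.pair M M' hm
    refine (eq_of_le_of_card_ge (le_inf ?_ ?_) ?_).symm
    · rw [h1]; exact M.line_le w₀
    · rw [h1']; exact M'.line_le w₀'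
    · rw [hl, M.card_line hw.ne, h1, M.card_line hw₀]
  have hR' : V' ⊓ V = R := by rw [inf_comm, hR]
  have hQn : ∀ g ∈ normalizer (R : Set G), ∀ x ∈ QQ R, g * x * g⁻¹ ∈ QQ R := fun g hg x hx =>
    conj_mem_of_normalizer (le_normalizer_O2 _ hg) hx
  obtain ⟨w, hw, hl, hU, hf, -, -⟩ := Mix.bridge M M' hm hV'Q p.QN (by rw [hR]; exact O2_le _) (O2_isPGroup _)
    (by rw [hR]; exact fun g _ hg x hx => hQn g hg x hx)
  obtain ⟨w', hw', hl', hU', hf', -, -⟩ := Mix.bridge M' M hm.symm p.VQ p.QN' (by rw [hR']; exact O2_le _)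
    (O2_isPGroup _) (by rw [hR']; exact fun g _ hg x hx => hQn g hg x hx)
  rw [hR] at hl
  rw [hR'] at hl'
  have hfull : M.Full V' w := hf
  refine ⟨w, hw, hl, ?_⟩
  refine ⟨by rw [← hl]; exact ch, by rw [← hl]; exact p.VQ, by rw [← hl]; exact hU,
    by rw [← hl]; exact hfull.mono p.K', ?_⟩
  rw [← hl]
  refine cenU_of (A := V') ?_ ?_ p.K'
  · intro x hx
    obtain ⟨B, hB, hB'⟩ := hU' hx
    obtain ⟨v, hv, hvB⟩ := hf' B hB
    refine ⟨v, hv, fun a ha => ?_⟩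
    obtain ⟨y, rfl⟩ := (M'.mem_iff a).1 ha
    have h2 : v * M'.e y * v⁻¹ = x * M'.e y * x⁻¹ := by rw [hvB, hB']
    calc v⁻¹ * x * M'.e y = v⁻¹ * (x * M'.e y * x⁻¹) * x := by group
      _ = v⁻¹ * (v * M'.e y * v⁻¹) * x := by rw [h2]
      _ = M'.e y * (v⁻¹ * x) := by group
  · intro t ht
    obtain ⟨B, hB, hB'⟩ := hU (hKQ ht)
    obtain ⟨a, ha, haB⟩ := hf B hB
    refine ⟨a, ha, mem_centralizer_iff.2 fun v hv => ?_⟩
    obtain ⟨y, rfl⟩ := (M.mem_iff v).1 hv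
    have h2 : a * M.e y * a⁻¹ = t * M.e y * t⁻¹ := by rw [haB, hB']
    calc M.e y * (a⁻¹ * t) = a⁻¹ * (a * M.e y * a⁻¹) * t := by group
      _ = a⁻¹ * (t * M.e y * t⁻¹) * t := by rw [h2]
      _ = a⁻¹ * t * M.e y := by group

/-- the same at the line `![1, 0]` -/
theorem Partner.at10 (p : Partner (M.line ![1, 0]) M M') (ch : Char2 (normalizer (M.line ![1, 0] : Set G))) :
    AtLine M ![1, 0] := by
  obtain ⟨w, hw, -, a⟩ := p.atLine ch
  exact a.all hw vec10_ne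

end partner

end Cfsg.Agent.Omega.IId.Cv.TwoFour

end
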